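import Cfsg.Agent.H779.G2.Stmts2

/-!
# S5211: two lemmas on finite fields for `StE5f` (helper771 for helper15)

* `semi_one` : a semilinear map `c τ` of `K` of order divisible by `q - 1` is linear;
* `num_false` : `c ^ 5` and `c⁻¹` are not conjugate over the prime field if `c` generates `Kˣ` (`p ≥ 5`, `q ≠ 7`).
-/

set_option autoImplicit false

namespace Cfsg.Agent.H771.GT

open Cfsg Cfsg.Agent.H779.G2

universe u

section

variable {K : Type u} [Field K]

/-- `c τ(c) ... τ^(j-1)(c)` -/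
def nrm (c : K) (τ : K ≃+* K) : ℕ → K
  | 0 => 1
  | j + 1 => c * τ (nrm c τ j)

theorem iter_eq (c : K) (τ : K ≃+* K) (j : ℕ) (t : K) : (fun t => c * τ t)^[j] t = nrm c τ j * (τ ^ j) t := by
  induction j with
  | zero => simp [nrm]
  | succ j ih =>
    rw [Function.iterate_succ_apply', ih]
    show c * τ (nrm c τ j * (τ ^ j) t) = c * τ (nrm c τ j) * (τ ^ (j + 1)) t
    rw [map_mul, pow_succ', RingAut.mul_apply, mul_assoc]

theorem nrm_ne {c : K} (hc : c ≠ 0) (τ : K ≃+* K) (j : ℕ) : nrm c τ j ≠ 0 := by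
  induction j with
  | zero => exact one_ne_zero
  | succ j ih => exact mul_ne_zero hc ((map_ne_zero_iff _ τ.injective).2 ih)

theorem semi_one {p n : ℕ} (hG : HypG K p n) (h5 : 5 ≤ p) {c : K} (hc : c ≠ 0) (τ : K ≃+* K)
    (h : ∀ k : ℕ, (∀ t : K, (fun t => c * τ t)^[k] t = t) → (p ^ n - 1) ∣ k) : ∀ t, τ t = t := by
  have hfin := hG.fin
  have hfinR : Finite (RingAut K) := Finite.of_injective (fun e : RingAut K => (e : K → K)) DFunLike.coe_injective
  obtain ⟨m, hm⟩ : ∃ m, m = orderOf (τ : RingAut K) := ⟨_, rfl⟩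
  have hm0 : 0 < m := by rw [hm]; exact orderOf_pos _
  have hτm : (τ : RingAut K) ^ m = 1 := by rw [hm]; exact pow_orderOf_eq_one _
  let G := Subgroup.zpowers (τ : RingAut K)
  let inst : Fintype G := Fintype.ofFinite G
  let K0 := FixedPoints.subfield G K
  have hdeg : Module.finrank K0 K = m := by
    rw [FixedPoints.finrank_eq_card G K, hm, ← Nat.card_eq_fintype_card, Nat.card_zpowers]
  have hcard : p ^ n = Nat.card K0 ^ m := by
    rw [← hG.card, Module.natCard_eq_pow_finrank (K := K0) (V := K), hdeg]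
  obtain ⟨N, hN⟩ : ∃ N, N = nrm c τ m := ⟨_, rfl⟩
  have hN0 : N ≠ 0 := by rw [hN]; exact nrm_ne hc τ m
  have hT : ∀ t : K, (fun t => c * τ t)^[m] t = N * t := by
    intro t
    rw [iter_eq, hτm, hN]
    rfl
  have hNτ : τ N = N := by
    have h1 : (fun t => c * τ t)^[m] (c * τ 1) = c * τ ((fun t => c * τ t)^[m] 1) := by
      rw [← Function.iterate_succ_apply' (f := fun t => c * τ t)]
      rfl
    rw [hT, hT, map_one, mul_one, mul_one, mul_comm N c] at h1
    exact (mul_left_cancel₀ hc h1).symm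
  have hNK : N ∈ K0 := by
    have h1 : G ≤ MulAction.stabilizer (RingAut K) N := by
      rw [Subgroup.zpowers_le]
      exact hNτ
    intro g
    exact h1 g.2
  have hNp : N ^ (Nat.card K0 - 1) = 1 := by
    have := Fintype.ofFinite K0
    have h1 := FiniteField.pow_card_sub_one_eq_one (⟨N, hNK⟩ : K0) (by
      intro h
      exact hN0 (congrArg Subtype.val h))
    rw [← Nat.card_eq_fintype_card] at h1
    exact congrArg Subtype.val h1
  have hdvd : (p ^ n - 1) ∣ m * (Nat.card K0 - 1) := by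
    apply h
    intro t
    rw [Function.iterate_mul]
    have h1 : ∀ j : ℕ, ((fun t => c * τ t)^[m])^[j] t = N ^ j * t := by
      intro j
      induction j with
      | zero => simp
      | succ j ih => rw [Function.iterate_succ_apply', ih, hT, pow_succ']; ring
    rw [h1, hNp, one_mul]
  have hr : 2 ≤ Nat.card K0 := Finite.one_lt_card
  obtain ⟨r, hr'⟩ : ∃ r, Nat.card K0 = r + 1 := ⟨Nat.card K0 - 1, by omega⟩
  rw [hcard, hr'] at hdvd
  have hr1 : 1 ≤ r := by omega
  have hle := Nat.le_of_dvd (by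
    rw [Nat.add_sub_cancel]
    exact Nat.mul_pos hm0 (by omega)) hdvd
  rw [Nat.add_sub_cancel] at hle
  have hm1 : m = 1 := by
    by_contra hne
    obtain ⟨k, hk⟩ : ∃ k, m = k + 2 := ⟨m - 2, by omega⟩
    have hb : ∀ k : ℕ, 1 + (k + 2) * r < (r + 1) ^ (k + 2) := by
      intro k
      induction k with
      | zero =>
        have h1 : (r + 1) ^ (0 + 2) = r * r + 2 * r + 1 := by ring
        rw [h1]
        nlinarith
      | succ k ih =>
        rw [pow_succ]
        nlinarith [Nat.zero_le (k * r * r)]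
    have := hb k
    rw [hk] at hle
    omega
  intro t
  have h1 : (τ : RingAut K) = 1 := by rw [← pow_one (τ : RingAut K), ← hm1]; exact hτm
  have h2 := congrArg (fun e : RingAut K => e t) h1
  exact h2

theorem num_false {p n : ℕ} (hG : HypG K p n) (h5 : 5 ≤ p) (h7 : ¬ (p = 7 ∧ n = 1)) {c : K} (hc : c ≠ 0)
    (hord : ∀ k : ℕ, c ^ k = 1 → (p ^ n - 1) ∣ k) (χ : K → K) (hadd : ∀ x y, χ (x + y) = χ x + χ y)
    (hinj : Function.Injective χ) (hχ : ∀ u, χ (c ^ 5 * u) = c⁻¹ * χ u) : False := by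
  have hfin := hG.fin
  have hp : Fact p.Prime := ⟨hG.pp⟩
  have hchar := hG.char
  have hF := Fintype.ofFinite K
  have hχ0 : χ 0 = 0 := by
    have := hadd 0 0
    rw [add_zero] at this
    exact left_eq_add.1 this
  have hχ1 : χ 1 ≠ 0 := fun h => one_ne_zero (hinj (h.trans hχ0.symm))
  have hpw : ∀ j : ℕ, χ ((c ^ 5) ^ j) = c⁻¹ ^ j * χ 1 := by
    intro j
    induction j with
    | zero => simp
    | succ j ih => rw [pow_succ', hχ, ih, pow_succ']; ring
  have hc5 : c ^ 5 ≠ 0 := pow_ne_zero _ hc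
  have hord5 : ∀ k : ℕ, (c ^ 5) ^ k = 1 → (p ^ n - 1) ∣ k := by
    intro k hk
    apply hord
    have h1 := hpw k
    rw [hk] at h1
    have h2 : c⁻¹ ^ k = 1 := mul_right_cancel₀ hχ1 (by rw [← h1, one_mul])
    rw [inv_pow, inv_eq_one] at h2
    exact h2
  -- all elements are powers of `c ^ 5`
  have hgen : ∀ x : K, x ≠ 0 → ∃ j : ℕ, x = (c ^ 5) ^ j := by
    intro x hx
    obtain ⟨v, hv⟩ : ∃ v : Kˣ, v = Units.mk0 (c ^ 5) hc5 := ⟨_, rfl⟩
    have hcu : Nat.card Kˣ = p ^ n - 1 := by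
      rw [Nat.card_units, hG.card]
    have ho : orderOf v = Nat.card Kˣ := by
      apply Nat.dvd_antisymm (orderOf_dvd_natCard v)
      rw [hcu]
      apply hord5
      have h1 : ((v ^ orderOf v : Kˣ) : K) = 1 := by rw [pow_orderOf_eq_one]; rfl
      have hv' : (v : K) = c ^ 5 := by rw [hv]; rfl
      rw [Units.val_pow_eq_pow_val, hv'] at h1
      exact h1
    have htop : Subgroup.zpowers v = ⊤ := by
      apply Subgroup.eq_top_of_card_eq
      rw [Nat.card_zpowers, ho]
    have hmem : Units.mk0 x hx ∈ Subgroup.zpowers v := by rw [htop]; trivial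
    rw [← mem_powers_iff_mem_zpowers] at hmem
    obtain ⟨j, hj⟩ := hmem
    refine ⟨j, ?_⟩
    have h1 := congrArg Units.val hj
    rw [hv] at h1
    simpa using h1.symm
  let ψ : K →+* K :=
    { toFun := fun x => χ x * (χ 1)⁻¹
      map_one' := mul_inv_cancel₀ hχ1
      map_zero' := by rw [hχ0, zero_mul]
      map_add' := fun x y => by rw [hadd, add_mul]
      map_mul' := fun x y => by
        rcases eq_or_ne x 0 with rfl | hx
        · rw [zero_mul, hχ0]; ring
        rcases eq_or_ne y 0 with rfl | hy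
        · rw [mul_zero, hχ0]; ring
        obtain ⟨i, rfl⟩ := hgen x hx
        obtain ⟨j, rfl⟩ := hgen y hy
        rw [← pow_add, hpw, hpw, hpw, pow_add]
        field_simp }
  have hψ : ∀ x, ψ x = χ x * (χ 1)⁻¹ := fun x => rfl
  let alg : Algebra (ZMod p) K := ZMod.algebra K p
  have hbij : Function.Bijective ψ := Finite.injective_iff_bijective.1 ψ.injective
  let Ψ : K ≃ₐ[ZMod p] K := AlgEquiv.ofRingEquiv (f := RingEquiv.ofBijective ψ hbij) (fun r => by
    have h1 : ψ.comp (algebraMap (ZMod p) K) = algebraMap (ZMod p) K := Subsingleton.elim _ _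
    exact RingHom.congr_fun h1 r)
  have hΨ : ∀ x, Ψ x = ψ x := fun x => rfl
  obtain ⟨⟨k, hk⟩, hkΨ⟩ := (FiniteField.bijective_frobeniusAlgEquivOfAlgebraic_pow (ZMod p) K).2 Ψ
  have hfr : Module.finrank (ZMod p) K = n := by
    have h1 := Module.natCard_eq_pow_finrank (K := ZMod p) (V := K)
    rw [hG.card, Nat.card_zmod] at h1
    exact (Nat.pow_right_injective hG.pp.two_le h1).symm
  rw [hfr] at hk
  have hval : ∀ x : K, ψ x = x ^ p ^ k := by
    intro x
    rw [← hΨ, ← hkΨ]
    show (FiniteField.frobeniusAlgEquivOfAlgebraic (ZMod p) K ^ k) x = _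
    rw [AlgEquiv.coe_pow, FiniteField.coe_frobeniusAlgEquivOfAlgebraic_iterate, ZMod.card]
  have h1 : (c ^ 5) ^ p ^ k = c⁻¹ := by
    rw [← hval, hψ]
    have h2 := hpw 1
    rw [pow_one, pow_one] at h2
    rw [h2, mul_assoc, mul_inv_cancel₀ hχ1, mul_one]
  have h2 : c ^ (5 * p ^ k + 1) = 1 := by
    rw [pow_succ, pow_mul, h1, inv_mul_cancel₀ hc]
  have h3 := hord _ h2
  have hn := hG.hn
  have hpn : ∀ m : ℕ, 1 ≤ m → 5 ≤ p ^ m := fun m hm => h5.trans (Nat.le_self_pow (by omega) p)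
  rcases Nat.eq_zero_or_pos k with rfl | hk0
  · rw [pow_zero, mul_one] at h3
    have h4 := Nat.le_of_dvd (by norm_num) h3
    have hn1 : n = 1 := by
      by_contra hne
      have h6 : 5 ^ 2 ≤ p ^ n := (Nat.pow_le_pow_left h5 2).trans (Nat.pow_le_pow_right (by omega) (by omega))
      omega
    subst hn1
    rw [pow_one] at h3 h4
    have h8 : p ≤ 7 := by omega
    interval_cases p
    · revert h3; decide
    · exact absurd hG.pp (by norm_num)
    · exact h7 ⟨rfl, rfl⟩
  · obtain ⟨l, hl⟩ : ∃ l, n = k + l := ⟨n - k, by omega⟩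
    have hl1 : 1 ≤ l := by omega
    have h4 : (p ^ n - 1) ∣ (5 * p ^ k + 1) * p ^ l := h3.mul_right _
    have h6 : (5 * p ^ k + 1) * p ^ l = 5 * (p ^ n - 1) + (5 + p ^ l) := by
      have h7 : p ^ n = p ^ k * p ^ l := by rw [hl, pow_add]
      have h8 : 1 ≤ p ^ n := Nat.one_le_pow _ _ (by omega)
      obtain ⟨w, hw⟩ : ∃ w, p ^ n = w + 1 := ⟨p ^ n - 1, by omega⟩
      rw [hw, Nat.add_sub_cancel]
      have h9 : p ^ k * p ^ l = w + 1 := by rw [← h7, hw]
      calc (5 * p ^ k + 1) * p ^ l = 5 * (p ^ k * p ^ l) + p ^ l := by ring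
        _ = 5 * w + (5 + p ^ l) := by rw [h9]; ring
    rw [h6] at h4
    have h8 : (p ^ n - 1) ∣ (5 + p ^ l) := (Nat.dvd_add_right (Dvd.intro_left 5 rfl)).1 h4
    have h9 := Nat.le_of_dvd (by omega) h8
    have h10 : 5 * p ^ l ≤ p ^ n := by
      rw [hl, pow_add]
      exact Nat.mul_le_mul_right _ (hpn k hk0)
    have h11 := hpn l hl1
    omega

end

end Cfsg.Agent.H771.GT
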