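import Cfsg.Agent.H949.GT.Act

/-!
# S5211 (helper771): automorphisms of `Q_a`, `p ≠ 3`, are semilinear on `Q_a / Z₁` (`StSem`)
-/

set_option autoImplicit false

namespace Cfsg.Agent.H771.GT

open Cfsg Cfsg.FusionSystem Cfsg.Agent.H756.PU Cfsg.Agent.H779.G2 Cfsg.Agent.H103.GT Cfsg.Agent.H802 Matrix
open Cfsg.Agent.H949.GT

universe u

/-- additive bijections compatible with a nondegenerate bilinear form are semilinear -/
theorem semilin_of {K V : Type*} [Field K] [AddCommGroup V] [Module K V] (om : V → V → K)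
    (l1 : ∀ (c : K) (v w : V), om (c • v) w = c * om v w) (l2 : ∀ (c : K) (v w : V), om v (c • w) = c * om v w)
    (ls : ∀ v v' w : V, om (v - v') w = om v w - om v' w)
    (hn : ∀ v : V, (∀ w, om v w = 0) → v = 0) {v₀ w₀ : V} (h1 : om v₀ w₀ = 1) (A : V → V) (hA : Function.Surjective A)
    (B : K → K) (hBa : ∀ x y, B (x + y) = B x + B y) (hB : Function.Bijective B)
    (hAB : ∀ v w, om (A v) (A w) = B (om v w)) :
    ∃ (τ : K ≃+* K) (m : K), m ≠ 0 ∧ (∀ c v, A (c • v) = τ c • A v) ∧ ∀ c, B c = m * τ c := by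
  have hB0 : B 0 = 0 := by
    have := hBa 0 0
    rw [add_zero] at this
    exact left_eq_add.1 this
  have hm : B 1 ≠ 0 := by
    intro h
    exact one_ne_zero (hB.1 (h.trans hB0.symm))
  -- the key identity
  have key : ∀ c d : K, B (c * d) * B 1 = B c * B d := by
    intro c d
    obtain ⟨w', hw'⟩ := hA ((B d / B 1) • A w₀)
    have h2 : B (om v₀ w') = B d := by
      rw [← hAB, hw', l2, hAB, h1, div_mul_cancel₀ _ hm]
    have h3 : om v₀ w' = d := hB.1 h2
    have h4 : B (c * d) = B d / B 1 * B c := by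
      have h5 := hAB (c • v₀) w'
      rw [hw', l2, l1, h3, hAB, l1, h1, mul_one] at h5
      exact h5.symm
    rw [h4]
    field_simp
  have hBm : ∀ c, B c = B 1 * (B c / B 1) := fun c => by rw [mul_div_cancel₀ _ hm]
  let τ : K ≃+* K := RingEquiv.ofBijective
    ({ toFun := fun c => B c / B 1
       map_one' := div_self hm
       map_mul' := fun x y => by
         have := key x y
         field_simp
         linear_combination this
       map_zero' := by rw [hB0, zero_div]
       map_add' := fun x y => by rw [hBa, add_div] } : K →+* K) (by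
      constructor
      · intro x y hxy
        have h2 : B x / B 1 = B y / B 1 := hxy
        rw [div_left_inj' hm] at h2
        exact hB.1 h2
      · intro y
        obtain ⟨x, hx⟩ := hB.2 (y * B 1)
        refine ⟨x, ?_⟩
        show B x / B 1 = y
        rw [hx, mul_div_cancel_right₀ _ hm])
  have hτ : ∀ c, B c = B 1 * τ c := hBm
  refine ⟨τ, B 1, hm, fun c v => ?_, hτ⟩
  have h2 : A (c • v) - τ c • A v = 0 := by
    refine hn _ fun w => ?_
    obtain ⟨w, rfl⟩ := hA w
    rw [ls, l1, hAB, hAB, l1, hτ (c * om v w), hτ (om v w), map_mul]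
    ring
  exact sub_eq_zero.1 h2

section
variable {K : Type u} [Field K]

/-- elements of `Q_a` with given coordinates -/
def lf (v : Fin 4 → K) : Qa K := ⟨⟨0, v 0, v 1, v 2, v 3, 0⟩, rfl⟩

theorem co_lf (v : Fin 4 → K) : co (lf v : GU K) = v := by
  ext i
  fin_cases i <;> rfl

theorem co_mul (g h : Qa K) : co ((g * h : Qa K) : GU K) = co (g : GU K) + co (h : GU K) := by
  have ha : (h : GU K).a = 0 := h.2
  ext i
  fin_cases i <;> simp [co, ha]

theorem co_inv (g : Qa K) : co ((g⁻¹ : Qa K) : GU K) = - co (g : GU K) := by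
  have h1 := co_mul g g⁻¹
  rw [mul_inv_cancel] at h1
  have h2 : co ((1 : Qa K) : GU K) = 0 := by
    ext i
    fin_cases i <;> rfl
  rw [h2] at h1
  exact (neg_eq_of_add_eq_zero_right h1.symm).symm

/-- `Z₁` is invariant under automorphisms of `Q_a` -/
theorem Z1_inv (h3 : (3 : K) ≠ 0) (γ : MulAut (Qa K)) {g : Qa K} (hg : (g : GU K) ∈ Z1 K) :
    ((γ g : Qa K) : GU K) ∈ Z1 K := by
  rw [← cent_Qa h3] at hg ⊢
  intro z hz
  have h1 : g * γ⁻¹ ⟨z, hz⟩ = γ⁻¹ ⟨z, hz⟩ * g := Subtype.ext (hg _ (γ⁻¹ ⟨z, hz⟩).2)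
  have h2 := congrArg (fun x => γ x) h1
  simp only [map_mul, MulAut.apply_inv_self] at h2
  exact congrArg Subtype.val h2

theorem co_congr (h3 : (3 : K) ≠ 0) (γ : MulAut (Qa K)) {g h : Qa K} (hgh : co (g : GU K) = co (h : GU K)) :
    co ((γ g : Qa K) : GU K) = co ((γ h : Qa K) : GU K) := by
  have h1 : ((h⁻¹ * g : Qa K) : GU K) ∈ Z1 K := by
    rw [← co_eq_zero, co_mul, co_inv, hgh, neg_add_cancel]
  have h2 := Z1_inv h3 γ h1
  rw [← co_eq_zero, map_mul, map_inv, co_mul, co_inv] at h2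
  rw [neg_add_eq_zero] at h2
  exact h2.symm

/-- the element `x₆(t)` of `Q_a` -/
def z6 (t : K) : Qa K := ⟨⟨0, 0, 0, 0, 0, t⟩, rfl⟩

theorem eq_z6 {g : Qa K} (hg : (g : GU K) ∈ Z1 K) : g = z6 (g : GU K).f := by
  obtain ⟨h1, h2, h3, h4, h5⟩ := hg
  apply Subtype.ext
  exact GU.ext h1 h2 h3 h4 h5 rfl

theorem z6_mem (t : K) : (z6 t : GU K) ∈ Z1 K := ⟨rfl, rfl, rfl, rfl, rfl⟩

/-- **(SEM)** -/
theorem stSem : StSem.{u} := by
  intro K _ p n hK hp3 γ
  have hchar := hK.char
  have h3 : (3 : K) ≠ 0 := by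
    intro h
    have h1 : p ∣ 3 := (CharP.cast_eq_zero_iff K p 3).1 (by exact_mod_cast h)
    exact hp3 (((Nat.prime_dvd_prime_iff_eq hK.pp Nat.prime_three).1 h1))
  let A : (Fin 4 → K) → (Fin 4 → K) := fun v => co ((γ (lf v) : Qa K) : GU K)
  have hA : ∀ g : Qa K, co ((γ g : Qa K) : GU K) = A (co (g : GU K)) := fun g =>
    co_congr h3 γ (co_lf _).symm
  have hAs : Function.Surjective A := by
    intro v
    refine ⟨co ((γ⁻¹ (lf v) : Qa K) : GU K), ?_⟩
    rw [← hA, MulAut.apply_inv_self, co_lf]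
  let B : K → K := fun t => ((γ (z6 t) : Qa K) : GU K).f
  have hB : ∀ g : Qa K, (g : GU K) ∈ Z1 K → ((γ g : Qa K) : GU K).f = B (g : GU K).f := by
    intro g hg
    conv_lhs => rw [eq_z6 hg]
  have hBa : ∀ x y, B (x + y) = B x + B y := by
    intro x y
    have e1 : (z6 (x + y) : Qa K) = z6 x * z6 y := by
      apply Subtype.ext
      apply GU.ext <;> simp [z6]
    show ((γ (z6 (x + y)) : Qa K) : GU K).f = _
    rw [e1, map_mul, Subgroup.coe_mul, GU.mul_f]
    obtain ⟨a1, a2, a3, a4, a5⟩ := Z1_inv h3 γ (z6_mem x)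
    obtain ⟨b1, b2, b3, b4, b5⟩ := Z1_inv h3 γ (z6_mem y)
    rw [a2, a3, a4, a5, b1, b2, b3]
    simp [B]
  have hBb : Function.Bijective B := by
    constructor
    · intro x y hxy
      have e1 : γ (z6 x) = γ (z6 y) := by
        rw [eq_z6 (Z1_inv h3 γ (z6_mem x)), eq_z6 (Z1_inv h3 γ (z6_mem y))]
        exact congrArg z6 hxy
      exact congrArg (fun g : Qa K => (g : GU K).f) (γ.injective e1)
    · intro y
      refine ⟨((γ⁻¹ (z6 y) : Qa K) : GU K).f, ?_⟩
      rw [← hB _ (Z1_inv h3 γ⁻¹ (z6_mem y)), MulAut.apply_inv_self]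
      rfl
  have hAB : ∀ v w, (A v) ⬝ᵥ (Om.mulVec (A w)) = B (v ⬝ᵥ (Om.mulVec w)) := by
    intro v w
    have h1 := comm_form (lf v) (lf w)
    have h2 := comm_form (γ (lf v)) (γ (lf w))
    rw [← map_inv, ← map_inv, ← map_mul, ← map_mul, ← map_mul] at h2
    rw [co_lf, co_lf] at h1
    rw [← h1.2, ← hB _ h1.1]
    exact h2.2.symm
  have hOm : ∀ v w : Fin 4 → K, v ⬝ᵥ (Om.mulVec w) = v 0 * w 3 - 3 * v 1 * w 2 + 3 * v 2 * w 1 - v 3 * w 0 := by
    intro v w
    simp [Om, Matrix.mulVec, dotProduct, Fin.sum_univ_four]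
    ring
  obtain ⟨τ, m, hm, hτ, hτB⟩ := semilin_of (K := K) (V := Fin 4 → K) (fun v w => v ⬝ᵥ (Om.mulVec w))
    (fun c v w => by simp only [hOm, Pi.smul_apply, smul_eq_mul]; ring)
    (fun c v w => by simp only [hOm, Pi.smul_apply, smul_eq_mul]; ring)
    (fun v v' w => by simp only [hOm, Pi.sub_apply]; ring)
    (fun v hv => by
      simp only [hOm] at hv
      have e0 := hv (Pi.single 3 1)
      have e1 := hv (Pi.single 2 1)
      have e2 := hv (Pi.single 1 1)
      have e3 := hv (Pi.single 0 1)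
      simp at e0 e1 e2 e3
      ext i
      fin_cases i
      · exact e0
      · exact e1.resolve_left h3
      · exact e2.resolve_left h3
      · exact e3)
    (v₀ := Pi.single 0 1) (w₀ := Pi.single 3 1) (by simp only [hOm]; simp) A hAs B hBa hBb hAB
  -- the matrix
  have hAa : ∀ v w, A (v + w) = A v + A w := by
    intro v w
    have h1 := hA (lf v * lf w)
    rw [co_mul, co_lf, co_lf, map_mul, co_mul, hA, hA, co_lf, co_lf] at h1
    exact h1.symm
  have hdec : ∀ v : Fin 4 → K, A v = τ (v 0) • A (Pi.single 0 1) + τ (v 1) • A (Pi.single 1 1) +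
      τ (v 2) • A (Pi.single 2 1) + τ (v 3) • A (Pi.single 3 1) := by
    intro v
    rw [← hτ, ← hτ, ← hτ, ← hτ, ← hAa, ← hAa, ← hAa]
    congr 1
    ext i
    fin_cases i <;> simp
  refine ⟨τ, fun i j => A (Pi.single j 1) i, m, hm, fun g => ?_, fun g => ?_, fun g => ?_, fun g => ?_, fun g hg => ?_⟩
  · have h1 := congrFun ((hA g).trans (hdec _)) 0
    refine h1.trans ?_
    simp only [Pi.add_apply, Pi.smul_apply, smul_eq_mul, co]
    simp
    ring
  · have h1 := congrFun ((hA g).trans (hdec _)) 1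
    refine h1.trans ?_
    simp only [Pi.add_apply, Pi.smul_apply, smul_eq_mul, co]
    simp
    ring
  · have h1 := congrFun ((hA g).trans (hdec _)) 2
    refine h1.trans ?_
    simp only [Pi.add_apply, Pi.smul_apply, smul_eq_mul, co]
    simp
    ring
  · have h1 := congrFun ((hA g).trans (hdec _)) 3
    refine h1.trans ?_
    simp only [Pi.add_apply, Pi.smul_apply, smul_eq_mul, co]
    simp
    ring
  · exact ⟨Z1_inv h3 γ hg, (hB g hg).trans (hτB _)⟩

end

end Cfsg.Agent.H771.GT
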