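import Cfsg.Agent.H949.GT.Gen

/-!
# S5211, the short root parabolic (helper771): the Weyl automorphism itself lies in `Γ` (`StWFin1`)

`w = ω_a φ`, `φ` trivial on `Q_a / Z₁`; commutators of `φ` with the torus lie in `C_Γ(Q_a / Z₁) ≤ Aut_S(Q_a)`, so that
`φ` is `K`-linear, that is inner.
-/

set_option autoImplicit false

namespace Cfsg.Agent.H771.GT

open Cfsg Cfsg.FusionSystem Cfsg.Agent.H756.PU Cfsg.Agent.H779.G2 Cfsg.Agent.H103.GT Cfsg.Agent.H802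
open Cfsg.Agent.H949.GT

universe u

variable {K : Type u} [Field K]

/-- `φ` acts trivially on `Q_a / Z₁` -/
def Trv (φ : MulAut (Qa K)) : Prop := ∀ g : Qa K, ((φ g : Qa K) : GU K).b = (g : GU K).b ∧
  ((φ g : Qa K) : GU K).c = (g : GU K).c ∧ ((φ g : Qa K) : GU K).d = (g : GU K).d ∧
  ((φ g : Qa K) : GU K).e = (g : GU K).e

/-- the deviation -/
def zf (φ : MulAut (Qa K)) (g : Qa K) : K := ((φ g : Qa K) : GU K).f - (g : GU K).f

/-- elements of `Q_a` -/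
def qa (b c d e f : K) : Qa K := ⟨⟨0, b, c, d, e, f⟩, rfl⟩

theorem qa_ext {g h : Qa K} (hb : (g : GU K).b = (h : GU K).b) (hc : (g : GU K).c = (h : GU K).c)
    (hd : (g : GU K).d = (h : GU K).d) (he : (g : GU K).e = (h : GU K).e) (hf : (g : GU K).f = (h : GU K).f) :
    g = h := by
  apply Subtype.ext
  have h1 : (g : GU K).a = 0 := g.2
  have h2 : (h : GU K).a = 0 := h.2
  exact GU.ext (h1.trans h2.symm) hb hc hd he hf

theorem zf_mul {φ : MulAut (Qa K)} (hφ : Trv φ) (g h : Qa K) : zf φ (g * h) = zf φ g + zf φ h := by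
  obtain ⟨b1, c1, d1, e1⟩ := hφ g
  obtain ⟨b2, c2, d2, e2⟩ := hφ h
  have ha : (h : GU K).a = 0 := h.2
  have ha' : ((φ h : Qa K) : GU K).a = 0 := (φ h).2
  simp only [zf, map_mul, Subgroup.coe_mul, GU.mul_f, b1, c1, d1, e1, b2, c2, d2, e2, ha, ha']
  ring

/-- `φ` is trivial on `Z₁` -/
theorem zf_Z1 {φ : MulAut (Qa K)} (hφ : Trv φ) (f : K) : zf φ (qa 0 0 0 0 f) = 0 := by
  have e1 : qa 0 0 0 0 f = qa 1 0 0 0 0 * qa 0 0 0 f 0 * (qa 1 0 0 0 0)⁻¹ * (qa 0 0 0 f 0 : Qa K)⁻¹ := by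
    apply qa_ext <;> simp [qa]
  have key : ∀ g h : Qa K, ((g * h * g⁻¹ * h⁻¹ : Qa K) : GU K).f = (g : GU K).b * (h : GU K).e -
      3 * (g : GU K).c * (h : GU K).d + 3 * (g : GU K).d * (h : GU K).c - (g : GU K).e * (h : GU K).b := by
    intro g h
    have ha : (g : GU K).a = 0 := g.2
    have ha' : (h : GU K).a = 0 := h.2
    show ((g : GU K) * (h : GU K) * (g : GU K)⁻¹ * (h : GU K)⁻¹).f = _
    rw [cm_f, ha, ha']
    ring
  have e2 : φ (qa 0 0 0 0 f) = φ (qa 1 0 0 0 0) * φ (qa 0 0 0 f 0) * (φ (qa 1 0 0 0 0))⁻¹ *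
      (φ (qa 0 0 0 f 0 : Qa K))⁻¹ := by
    rw [e1, map_mul, map_mul, map_mul, map_inv, map_inv]
  obtain ⟨b1, c1, d1, e1'⟩ := hφ (qa 1 0 0 0 0)
  obtain ⟨b2, c2, d2, e2'⟩ := hφ (qa 0 0 0 f 0)
  rw [zf, e2, key, b1, c1, d1, e1', b2, c2, d2, e2']
  simp [qa]

/-- the deviation depends on `b, c, d, e` only, and is additive -/
theorem zf_eq {φ : MulAut (Qa K)} (hφ : Trv φ) (g : Qa K) : zf φ g = zf φ (qa (g : GU K).b 0 0 0 0) +
    zf φ (qa 0 (g : GU K).c 0 0 0) + zf φ (qa 0 0 (g : GU K).d 0 0) + zf φ (qa 0 0 0 (g : GU K).e 0) := by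
  have e1 : g = qa (g : GU K).b 0 0 0 0 * qa 0 (g : GU K).c 0 0 0 * qa 0 0 (g : GU K).d 0 0 *
      qa 0 0 0 (g : GU K).e 0 * qa 0 0 0 0 (g : GU K).f := by
    apply qa_ext <;> simp [qa]
  conv_lhs => rw [e1, zf_mul hφ, zf_mul hφ, zf_mul hφ, zf_mul hφ, zf_Z1 hφ, add_zero]

/-- the deviation is trivial on elements with trivial coordinates `b, c, d, e`; it only depends on these -/
theorem zf_congr {φ : MulAut (Qa K)} (hφ : Trv φ) {g h : Qa K} (hb : (g : GU K).b = (h : GU K).b)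
    (hc : (g : GU K).c = (h : GU K).c) (hd : (g : GU K).d = (h : GU K).d) (he : (g : GU K).e = (h : GU K).e) :
    zf φ g = zf φ h := by
  rw [zf_eq hφ g, zf_eq hφ h, hb, hc, hd, he]

theorem trv_iff (h3 : (3 : K) ≠ 0) {φ : MulAut (Qa K)} :
    Trv φ ↔ ∀ g : Qa K, φ g * g⁻¹ ∈ Subgroup.center (Qa K) := by
  have hZ : ∀ x : Qa K, x ∈ Subgroup.center (Qa K) ↔ (x : GU K) ∈ Z1 K := by
    intro x
    rw [Subgroup.mem_center_iff, ← cent_Qa h3]
    constructor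
    · intro h z hz
      exact (congrArg Subtype.val (h ⟨z, hz⟩)).symm
    · intro h g
      exact Subtype.ext (h g g.2).symm
  refine forall_congr' fun g => ?_
  rw [hZ]
  have ha : (g : GU K).a = 0 := g.2
  have ha' : ((φ g : Qa K) : GU K).a = 0 := (φ g).2
  show _ ↔ (((φ g : Qa K) : GU K) * (g : GU K)⁻¹) ∈ Z1 K
  rw [mem_Z1]
  simp only [GU.mul_a, GU.mul_b, GU.mul_c, GU.mul_d, GU.mul_e, GU.inv_a, GU.inv_b, GU.inv_c, GU.inv_d, GU.inv_e, ha,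
    ha']
  constructor
  · rintro ⟨h1, h2, h3, h4⟩
    rw [h1, h2, h3, h4]
    refine ⟨?_, ?_, ?_, ?_, ?_⟩ <;> ring
  · rintro ⟨-, h1, h2, h3, h4⟩
    refine ⟨?_, ?_, ?_, ?_⟩
    · linear_combination h1
    · linear_combination h2
    · linear_combination h3
    · linear_combination h4

theorem trv_conj (h3 : (3 : K) ≠ 0) {φ α : MulAut (Qa K)} (hφ : Trv φ) : Trv (α⁻¹ * φ * α) := by
  rw [trv_iff h3] at hφ ⊢
  intro g
  have h1 := hφ (α g)
  have h2 : (α⁻¹ * φ * α) g * g⁻¹ = α⁻¹ (φ (α g) * (α g)⁻¹) := by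
    rw [map_mul, map_inv, MulAut.inv_apply_self]
    rfl
  rw [h2]
  rw [Subgroup.mem_center_iff] at h1 ⊢
  intro x
  have h4 := h1 (α x)
  have h5 := congrArg (fun y => α⁻¹ y) h4
  simp only [map_mul, MulAut.inv_apply_self] at h5 ⊢
  exact h5

theorem zf_pow {φ : MulAut (Qa K)} (hφ : Trv φ) (k : ℕ) : Trv (φ ^ k) ∧ ∀ g, zf (φ ^ k) g = k * zf φ g := by
  induction k with
  | zero => exact ⟨fun g => ⟨rfl, rfl, rfl, rfl⟩, fun g => by simp [zf]⟩
  | succ k ih =>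
    have h1 : ∀ g, (φ ^ (k + 1)) g = (φ ^ k) (φ g) := fun g => by rw [pow_succ, MulAut.mul_apply]
    refine ⟨fun g => ?_, fun g => ?_⟩
    · rw [h1]
      obtain ⟨a1, a2, a3, a4⟩ := ih.1 (φ g)
      obtain ⟨b1, b2, b3, b4⟩ := hφ g
      exact ⟨a1.trans b1, a2.trans b2, a3.trans b3, a4.trans b4⟩
    · have h2 := ih.2 (φ g)
      have h3 : zf φ (φ g) = zf φ g := by
        obtain ⟨b1, b2, b3, b4⟩ := hφ g
        exact zf_congr hφ b1 b2 b3 b4
      rw [h3] at h2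
      have h4 : zf (φ ^ (k + 1)) g = zf (φ ^ k) (φ g) + zf φ g := by
        unfold zf
        rw [h1]
        ring
      rw [h4, h2]
      push_cast
      ring

/-- the elements of `Γ` acting trivially on `Q_a / Z₁` -/
def TrS (Γ : Subgroup (MulAut (Qa K))) : Subgroup (MulAut (Qa K)) where
  carrier := {γ | γ ∈ Γ ∧ Trv γ}
  one_mem' := ⟨Γ.one_mem, fun g => ⟨rfl, rfl, rfl, rfl⟩⟩
  mul_mem' := by
    rintro x y ⟨hx, hx'⟩ ⟨hy, hy'⟩
    refine ⟨Γ.mul_mem hx hy, fun g => ?_⟩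
    obtain ⟨a1, a2, a3, a4⟩ := hx' (y g)
    obtain ⟨b1, b2, b3, b4⟩ := hy' g
    exact ⟨a1.trans b1, a2.trans b2, a3.trans b3, a4.trans b4⟩
  inv_mem' := by
    rintro x ⟨hx, hx'⟩
    refine ⟨Γ.inv_mem hx, fun g => ?_⟩
    have h1 := hx' (x⁻¹ g)
    rw [MulAut.apply_inv_self] at h1
    obtain ⟨a1, a2, a3, a4⟩ := h1
    exact ⟨a1.symm, a2.symm, a3.symm, a4.symm⟩

/-- `C_Γ(Q_a / Z₁) ≤ Aut_S(Q_a)` -/
theorem trv_mem {p n : ℕ} {Γ : Subgroup (MulAut (Qa K))} {D : Subgroup (MulAut (GU K))} (hK : HypG K p n)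
    (h3 : (3 : K) ≠ 0) (hP : Par p (Qa K) Γ D) {ψ : MulAut (Qa K)} (hψ : ψ ∈ Γ) (ht : Trv ψ) :
    ψ ∈ autInducedBy ⊤ (Qa K) := by
  have := hK.char
  obtain ⟨g, hg, h⟩ := hP.syl (TrS Γ) (fun x hx => hx.1) (by
    rintro ⟨x, hx, hx'⟩
    refine ⟨1, ?_⟩
    apply Subtype.ext
    show x ^ p ^ 1 = 1
    rw [pow_one]
    obtain ⟨h1, h2⟩ := zf_pow hx' p
    apply MulEquiv.ext
    intro g
    obtain ⟨a1, a2, a3, a4⟩ := h1 g
    refine qa_ext a1 a2 a3 a4 ?_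
    have h4 := h2 g
    rw [CharP.cast_eq_zero, zero_mul] at h4
    exact sub_eq_zero.1 h4)
  have h1 := h (g⁻¹ * ψ * g) ⟨Γ.mul_mem (Γ.mul_mem (Γ.inv_mem hg) hψ) hg, trv_conj h3 ht⟩
  have h2 : g * (g⁻¹ * ψ * g) * g⁻¹ = ψ := by group
  rwa [h2] at h1

/-- an element of `Aut_S(Q_a)` acting trivially on `Q_a / Z₁` is linear -/
theorem zf_lin {ψ : MulAut (Qa K)} (h : ψ ∈ autInducedBy ⊤ (Qa K)) (ht : Trv ψ) :
    ∃ x : GU K, ∀ g : Qa K, zf ψ g = x.b * (g : GU K).e - 3 * x.c * (g : GU K).d + 3 * x.d * (g : GU K).c -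
      x.e * (g : GU K).b := by
  obtain ⟨x, -, hx⟩ := (mem_autInducedBy_iff _ _ _).1 h
  refine ⟨x, fun g => ?_⟩
  have hxa : x.a = 0 := by
    have h1 := (ht (qa 1 0 0 0 0)).2.1
    rw [hx, cj_c] at h1
    simpa [qa] using h1
  have ha : (g : GU K).a = 0 := g.2
  unfold zf
  rw [hx, cj_f, hxa, ha]
  ring

theorem exists_cube_ne {q : ℕ} [Finite K] (hq : Nat.card K = q) (h5 : 5 ≤ q) : ∃ s : K, s ≠ 0 ∧ s ^ 3 ≠ 1 := by
  classical
  have := Fintype.ofFinite K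
  by_contra hcon
  push Not at hcon
  have h1 : (Polynomial.X ^ 4 - Polynomial.X : Polynomial K) = 0 := by
    apply Polynomial.eq_zero_of_natDegree_lt_card_of_eval_eq_zero' _ Finset.univ
    · intro s _
      simp only [Polynomial.eval_sub, Polynomial.eval_pow, Polynomial.eval_X]
      by_cases hs : s = 0
      · rw [hs]; ring
      · have := hcon s hs
        linear_combination s * this
    · have h2 : (Polynomial.X ^ 4 - Polynomial.X : Polynomial K).natDegree ≤ 4 := by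
        compute_degree
      have h4 : Finset.card (Finset.univ : Finset K) = q := by
        rw [Finset.card_univ, ← Nat.card_eq_fintype_card, hq]
      omega
  have h2 := congrArg (fun P => Polynomial.coeff P 4) h1
  simp [Polynomial.coeff_X] at h2

set_option maxHeartbeats 1000000 in
/-- **the Weyl automorphism lies in `Γ`** -/
theorem stWFin1 : StWFin1.{u} := by
  intro K _ p n hK hp3 hq Γ D hP hD hw
  obtain ⟨w, hwΓ, hw⟩ := hw
  have hfin := hK.fin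
  have hchar := hK.char
  have h3 : (3 : K) ≠ 0 := by
    intro h
    have h1 : p ∣ 3 := (CharP.cast_eq_zero_iff K p 3).1 (by exact_mod_cast h)
    exact hp3 (((Nat.prime_dvd_prime_iff_eq hK.pp Nat.prime_three).1 h1))
  obtain ⟨ω, hω⟩ := exists_wa (K := K)
  set φ : MulAut (Qa K) := ω⁻¹ * w with hφ
  have hωφ : ω * φ = w := by rw [hφ, mul_inv_cancel_left]
  have hφT : Trv φ := by
    intro g
    have h1 : ω (φ g) = w g := by rw [← MulAut.mul_apply, hωφ]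
    obtain ⟨w1, w2, w3, w4⟩ := hw g
    rw [← h1, hω.b] at w1
    rw [← h1, hω.c] at w2
    rw [← h1, hω.d] at w3
    rw [← h1, hω.e] at w4
    exact ⟨neg_injective w4, w3, neg_injective w2, w1⟩
  -- the commutators with the torus
  have key : ∀ s t : K, s ≠ 0 → t ≠ 0 → ∃ x : GU K, ∀ g : Qa K,
      (s ^ 3 * t ^ 2)⁻¹ * zf φ (qa (t * (g : GU K).b) (s * t * (g : GU K).c) (s ^ 2 * t * (g : GU K).d)
        (s ^ 3 * t * (g : GU K).e) 0) - zf φ g = x.b * (g : GU K).e - 3 * x.c * (g : GU K).d +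
          3 * x.d * (g : GU K).c - x.e * (g : GU K).b := by
    intro s t hs ht
    obtain ⟨α, hα⟩ := exists_tor (K := K) (s := s) (t := t) (RingEquiv.refl K) hs ht
    obtain ⟨α', hα'⟩ := exists_tor (K := K) (s := s⁻¹) (t := s ^ 3 * t) (RingEquiv.refl K) (inv_ne_zero hs)
      (mul_ne_zero (pow_ne_zero _ hs) ht)
    obtain ⟨δ, hδ⟩ := exists_isR hα
    obtain ⟨δ', hδ'⟩ := exists_isR hα'
    have hδΓ : δ ∈ Γ := hP.D_res α (hD _ _ _ hα) δ hδ
    have hδΓ' : δ' ∈ Γ := hP.D_res α' (hD _ _ _ hα') δ' hδ'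
    have hc1 : ω * δ = δ' * ω := by
      apply MulEquiv.ext
      intro g
      rw [MulAut.mul_apply, MulAut.mul_apply]
      apply qa_ext
      · rw [hω.b, hδ, hδ', hα.e, hα'.b, hω.b]
      · rw [hω.c, hδ, hδ', hα.d, hα'.c, hω.c]
        simp only [RingEquiv.refl_apply]
        field_simp
      · rw [hω.d, hδ, hδ', hα.c, hα'.d, hω.d]
        simp only [RingEquiv.refl_apply]
        field_simp
      · rw [hω.e, hδ, hδ', hα.b, hα'.e, hω.e]
        simp only [RingEquiv.refl_apply]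
        field_simp
      · rw [hω.f, hδ, hδ', hα.f, hα.b, hα.e, hα.c, hα.d, hα'.f, hω.f]
        simp only [RingEquiv.refl_apply]
        field_simp
    set ψ : MulAut (Qa K) := w⁻¹ * δ'⁻¹ * w * δ with hψ
    have hψΓ : ψ ∈ Γ := Γ.mul_mem (Γ.mul_mem (Γ.mul_mem (Γ.inv_mem hwΓ) (Γ.inv_mem hδΓ')) hwΓ) hδΓ
    have hψe : δ * φ * ψ = φ * δ := by
      have e1 : δ = ω⁻¹ * δ' * ω := by rw [mul_assoc, ← hc1, inv_mul_cancel_left]
      rw [hψ, hφ, e1]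
      group
    have hg : ∀ g : Qa K, δ (φ (ψ g)) = φ (δ g) := fun g => by
      have := congrArg (fun γ : MulAut (Qa K) => γ g) hψe
      exact this
    have hψT : Trv ψ := by
      intro g
      have h1 := hg g
      obtain ⟨a1, a2, a3, a4⟩ := hφT (ψ g)
      obtain ⟨b1, b2, b3, b4⟩ := hφT (δ g)
      have r1 := congrArg (fun x : Qa K => (x : GU K).b) h1
      have r2 := congrArg (fun x : Qa K => (x : GU K).c) h1
      have r3 := congrArg (fun x : Qa K => (x : GU K).d) h1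
      have r4 := congrArg (fun x : Qa K => (x : GU K).e) h1
      rw [b1, hδ, hδ, hα.b, hα.b, a1] at r1
      rw [b2, hδ, hδ, hα.c, hα.c, a2] at r2
      rw [b3, hδ, hδ, hα.d, hα.d, a3] at r3
      rw [b4, hδ, hδ, hα.e, hα.e, a4] at r4
      exact ⟨mul_left_cancel₀ ht r1, mul_left_cancel₀ (mul_ne_zero hs ht) r2,
        mul_left_cancel₀ (mul_ne_zero (pow_ne_zero _ hs) ht) r3,
        mul_left_cancel₀ (mul_ne_zero (pow_ne_zero _ hs) ht) r4⟩
    obtain ⟨x, hx⟩ := zf_lin (trv_mem hK h3 hP hψΓ hψT) hψT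
    refine ⟨x, fun g => ?_⟩
    rw [← hx g]
    have h1 := congrArg (fun x : Qa K => (x : GU K).f) (hg g)
    rw [hδ, hα.f] at h1
    have h2 : ((φ (ψ g) : Qa K) : GU K).f = zf φ g + zf ψ g + (g : GU K).f := by
      obtain ⟨a1, a2, a3, a4⟩ := hψT g
      have h4 := zf_congr hφT a1 a2 a3 a4
      rw [← h4]
      unfold zf
      ring
    have h4 : ((φ (δ g) : Qa K) : GU K).f = zf φ (qa (t * (g : GU K).b) (s * t * (g : GU K).c)
        (s ^ 2 * t * (g : GU K).d) (s ^ 3 * t * (g : GU K).e) 0) + s ^ 3 * t ^ 2 * (g : GU K).f := by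
      have h5 : zf φ (qa (t * (g : GU K).b) (s * t * (g : GU K).c) (s ^ 2 * t * (g : GU K).d)
          (s ^ 3 * t * (g : GU K).e) 0) = zf φ (δ g) := by
        refine zf_congr hφT ?_ ?_ ?_ ?_
        · rw [hδ, hα.b]; rfl
        · rw [hδ, hα.c]; rfl
        · rw [hδ, hα.d]; rfl
        · rw [hδ, hα.e]; rfl
      rw [h5]
      unfold zf
      rw [hδ, hα.f]
      simp
    rw [h2, h4] at h1
    have hne : s ^ 3 * t ^ 2 ≠ 0 := mul_ne_zero (pow_ne_zero _ hs) (pow_ne_zero _ ht)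
    simp only [RingEquiv.refl_apply] at h1
    have h6 : zf φ (qa (t * (g : GU K).b) (s * t * (g : GU K).c) (s ^ 2 * t * (g : GU K).d)
        (s ^ 3 * t * (g : GU K).e) 0) = (s ^ 3 * t ^ 2) * (zf φ g + zf ψ g) := by
      linear_combination -h1
    rw [h6, inv_mul_cancel_left₀ hne]
    ring
  obtain ⟨s, hs0, hs3⟩ := exists_cube_ne (K := K) hK.card hq
  have hs1 : s ≠ 1 := fun h => hs3 (by rw [h, one_pow])
  -- linearity on the root subgroups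
  have lb : ∃ m : K, ∀ u : K, zf φ (qa u 0 0 0 0) = m * u := by
    obtain ⟨x, hx⟩ := key s 1 hs0 one_ne_zero
    have hne : (s ^ 3)⁻¹ - 1 ≠ 0 := by
      intro h
      exact hs3 (inv_eq_one.1 (sub_eq_zero.1 h))
    refine ⟨((s ^ 3)⁻¹ - 1)⁻¹ * -x.e, fun u => ?_⟩
    have h1 := hx (qa u 0 0 0 0)
    simp only [qa, one_mul, mul_zero, one_pow, mul_one, add_zero, sub_zero, zero_sub] at h1 ⊢
    have h2 : ((s ^ 3)⁻¹ - 1) * zf φ ⟨⟨0, u, 0, 0, 0, 0⟩, rfl⟩ = -(x.e * u) := by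
      linear_combination h1
    rw [mul_assoc, neg_mul, ← h2, inv_mul_cancel_left₀ hne]
  have lc : ∃ m : K, ∀ u : K, zf φ (qa 0 u 0 0 0) = m * u := by
    obtain ⟨x, hx⟩ := key s s⁻¹ hs0 (inv_ne_zero hs0)
    have hne : s⁻¹ - 1 ≠ 0 := by
      intro h
      exact hs1 (inv_eq_one.1 (sub_eq_zero.1 h))
    refine ⟨(s⁻¹ - 1)⁻¹ * (3 * x.d), fun u => ?_⟩
    have h1 := hx (qa 0 u 0 0 0)
    have e1 : (s ^ 3 * s⁻¹ ^ 2)⁻¹ = s⁻¹ := by field_simp
    have e2 : s * s⁻¹ = 1 := mul_inv_cancel₀ hs0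
    rw [e1, e2] at h1
    simp only [qa, one_mul, mul_zero, one_pow, mul_one, add_zero, sub_zero, zero_sub, zero_add] at h1 ⊢
    have h2 : (s⁻¹ - 1) * zf φ ⟨⟨0, 0, u, 0, 0, 0⟩, rfl⟩ = 3 * x.d * u := by
      linear_combination h1
    rw [mul_assoc, ← h2, inv_mul_cancel_left₀ hne]
  have ld : ∃ m : K, ∀ u : K, zf φ (qa 0 0 u 0 0) = m * u := by
    obtain ⟨x, hx⟩ := key s (s ^ 2)⁻¹ hs0 (inv_ne_zero (pow_ne_zero _ hs0))
    have hne : s - 1 ≠ 0 := sub_ne_zero.2 hs1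
    refine ⟨(s - 1)⁻¹ * (-(3 * x.c)), fun u => ?_⟩
    have h1 := hx (qa 0 0 u 0 0)
    have e1 : (s ^ 3 * (s ^ 2)⁻¹ ^ 2)⁻¹ = s := by field_simp
    have e2 : s ^ 2 * (s ^ 2)⁻¹ = 1 := mul_inv_cancel₀ (pow_ne_zero _ hs0)
    rw [e1, e2] at h1
    simp only [qa, one_mul, mul_zero, one_pow, mul_one, add_zero, sub_zero, zero_sub, zero_add] at h1 ⊢
    have h2 : (s - 1) * zf φ ⟨⟨0, 0, 0, u, 0, 0⟩, rfl⟩ = -(3 * x.c) * u := by
      linear_combination h1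
    rw [mul_assoc, ← h2, inv_mul_cancel_left₀ hne]
  have le : ∃ m : K, ∀ u : K, zf φ (qa 0 0 0 u 0) = m * u := by
    obtain ⟨x, hx⟩ := key s (s ^ 3)⁻¹ hs0 (inv_ne_zero (pow_ne_zero _ hs0))
    have hne : s ^ 3 - 1 ≠ 0 := sub_ne_zero.2 hs3
    refine ⟨(s ^ 3 - 1)⁻¹ * x.b, fun u => ?_⟩
    have h1 := hx (qa 0 0 0 u 0)
    have e1 : (s ^ 3 * (s ^ 3)⁻¹ ^ 2)⁻¹ = s ^ 3 := by field_simp
    have e2 : s ^ 3 * (s ^ 3)⁻¹ = 1 := mul_inv_cancel₀ (pow_ne_zero _ hs0)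
    rw [e1, e2] at h1
    simp only [qa, one_mul, mul_zero, one_pow, mul_one, add_zero, sub_zero, zero_sub, zero_add] at h1 ⊢
    have h2 : (s ^ 3 - 1) * zf φ ⟨⟨0, 0, 0, 0, u, 0⟩, rfl⟩ = x.b * u := by
      linear_combination h1
    rw [mul_assoc, ← h2, inv_mul_cancel_left₀ hne]
  obtain ⟨mb, hmb⟩ := lb
  obtain ⟨mc, hmc⟩ := lc
  obtain ⟨md, hmd⟩ := ld
  obtain ⟨me, hme⟩ := le
  -- `φ` is inner
  have hφΓ : φ ∈ Γ := by
    refine hP.indu ((mem_autInducedBy_iff _ _ _).2 ⟨⟨0, me, -(3⁻¹ * md), 3⁻¹ * mc, -mb, 0⟩, trivial, fun g => ?_⟩)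
    have ha : (g : GU K).a = 0 := g.2
    have ha' : ((φ g : Qa K) : GU K).a = 0 := (φ g).2
    obtain ⟨b1, b2, b3, b4⟩ := hφT g
    have hz := zf_eq hφT g
    rw [hmb, hmc, hmd, hme] at hz
    apply GU.ext
    · rw [cj_a, ha, ha']
    · rw [cj_b, b1]
    · rw [cj_c, b2, ha]
      ring
    · rw [cj_d, b3, ha]
      ring
    · rw [cj_e, b4, ha]
      ring
    · rw [cj_f, ha]
      have h5 : ((φ g : Qa K) : GU K).f = zf φ g + (g : GU K).f := by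
        unfold zf
        ring
      rw [h5, hz]
      have h6 : (3 : K) * 3⁻¹ = 1 := mul_inv_cancel₀ h3
      linear_combination (-md * (g : GU K).d - mc * (g : GU K).c) * h6
  refine ⟨ω, ?_, hω⟩
  have h1 : ω = w * φ⁻¹ := by rw [← hωφ, mul_inv_cancel_right]
  rw [h1]
  exact Γ.mul_mem hwΓ (Γ.inv_mem hφΓ)

end Cfsg.Agent.H771.GT
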