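import Cfsg.Agent.H103.GT.Asm
import Cfsg.Agent.H779.G2.Stmts2

/-!
# S5211, `p = 3`: two lemmas for `StE32` (helper771 for helper647)

* `e32_T` : transfer along the graph automorphism;
* `nn_transfer`, `e32_ess_conj` : if `Q_b` is not essential then no essential subgroup contains a conjugate of `Q_b`.
-/

set_option autoImplicit false

namespace Cfsg.Agent.H771.GT

open Cfsg Cfsg.FusionSystem Cfsg.Agent.H779.G2 Cfsg.Agent.H756.PU Cfsg.Agent.H802 Cfsg.Agent.H103.GT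

universe u

/-- transfer along the graph automorphism -/
theorem e32_T {K : Type u} [Field K] {n : ℕ} [Fact (Nat.Prime 3)] (hK : HypG K 3 n)
    (H : ∀ (F : FusionSystem (⊤ : Subgroup (GU K))), F.IsSaturated 3 → ∀ E, F.IsEssential 3 E →
      ∀ y ∈ E, (∀ e ∈ E, y * e = e * y) → y.b = 0 → y.a ≠ 0 → False) :
    ∀ (F : FusionSystem (⊤ : Subgroup (GU K))), F.IsSaturated 3 → ∀ E, F.IsEssential 3 E →
      ∀ y ∈ E, (∀ e ∈ E, y * e = e * y) → y.a = 0 → y.b ≠ 0 → False := by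
  intro F hF E hE y hy hyc ha hb
  have hfin : Finite K := hK.fin
  have hchar := hK.char
  have h3 : (3 : K) = 0 := by exact_mod_cast CharP.cast_eq_zero K 3
  obtain ⟨ρ, hρ⟩ := exists_gr (K := K) h3
  obtain ⟨F', hF', -, -, hess⟩ := Cfsg.Agent.H805.PU.stTwist F ρ hF
  refine H F' hF' (E.map ρ.toMonoidHom) ((hess E).1 hE) (ρ y) ⟨y, hy, rfl⟩ ?_ ?_ ?_
  · rintro _ ⟨e, he, rfl⟩
    show ρ y * ρ e = ρ e * ρ y
    rw [← map_mul, hyc e he, map_mul]
  · rw [hρ.b, ha]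
    ring
  · rw [hρ.a]
    exact hb

/-- normality of `Aut_S` is transported between two normal conjugate subgroups -/
theorem nn_transfer {G0 : Type u} [Group G0] [Finite G0] {p : ℕ} [Fact p.Prime] {F : FusionSystem (⊤ : Subgroup G0)}
    (hS : IsPGroup p (⊤ : Subgroup G0)) (hF : F.IsSaturated p) {Q Q' : Subgroup G0}
    (hQ : (⊤ : Subgroup G0) ≤ Subgroup.normalizer (Q : Set G0)) (hQ' : (⊤ : Subgroup G0) ≤ Subgroup.normalizer (Q' : Set G0))
    {φ : Q →* G0} (hφ : φ ∈ F.Hom Q) (hr : φ.range = Q') (h : ∀ γ ∈ F.autGroup Q, NormAut (⊤ : Subgroup G0) γ) :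
    ∀ γ ∈ F.autGroup Q', NormAut (⊤ : Subgroup G0) γ := by
  obtain ⟨c, hc⟩ : ∃ c, c = MulAut.congr (isoOf φ (F.injective_of_mem hφ) hr) := ⟨_, rfl⟩
  have hmem : ∀ α : MulAut Q, c α ∈ F.autGroup Q' ↔ α ∈ F.autGroup Q := by
    intro α
    rw [hc]
    exact congr_mem_autGroup_iff hφ hr
  have hA : autInducedBy ⊤ Q ≤ F.autGroup Q := autInducedBy_le_autGroup F le_top
  have hA' : autInducedBy ⊤ Q' ≤ F.autGroup Q' := autInducedBy_le_autGroup F le_top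
  have key : ∀ γ' ∈ F.autGroup Q', ∀ x ∈ autInducedBy ⊤ Q, ∃ z ∈ autInducedBy ⊤ Q, γ' * c x * γ'⁻¹ = c z := by
    intro γ' hγ' x hx
    obtain ⟨γ, rfl⟩ := c.surjective γ'
    refine ⟨γ * x * γ⁻¹, h γ ((hmem γ).1 hγ') x hx, ?_⟩
    rw [map_mul, map_mul, map_inv]
  have h1 : ∀ x ∈ autInducedBy ⊤ Q, c x ∈ autInducedBy ⊤ Q' := by
    have hP : IsPGroup p ((autInducedBy ⊤ Q).map c.toMonoidHom) := (isPGroup_autInducedBy hS Q).map _
    obtain ⟨g, hg, hgx⟩ := syl_of_normal hS hF hQ' _ (by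
      rintro _ ⟨x, hx, rfl⟩
      exact (hmem x).2 (hA hx)) hP
    intro x hx
    obtain ⟨z, hz, e⟩ := key g⁻¹ (inv_mem hg) x hx
    have h2 := hgx (c z) ⟨z, hz, rfl⟩
    rw [← e] at h2
    have e2 : g * (g⁻¹ * c x * g⁻¹⁻¹) * g⁻¹ = c x := by group
    rwa [e2] at h2
  have h2 : ∀ x' ∈ autInducedBy ⊤ Q', ∃ x ∈ autInducedBy ⊤ Q, c x = x' := by
    have hP : IsPGroup p ((autInducedBy ⊤ Q').map c.symm.toMonoidHom) := (isPGroup_autInducedBy hS Q').map _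
    obtain ⟨g, hg, hgx⟩ := syl_of_normal hS hF hQ _ (by
      rintro _ ⟨x, hx, rfl⟩
      apply (hmem _).1
      show c (c.symm x) ∈ _
      rw [MulEquiv.apply_symm_apply]
      exact hA' hx) hP
    intro x' hx'
    refine ⟨c.symm x', ?_, c.apply_symm_apply x'⟩
    have h3 := h g⁻¹ (inv_mem hg) _ (hgx (c.symm x') ⟨x', hx', rfl⟩)
    have e2 : g⁻¹ * (g * c.symm x' * g⁻¹) * g⁻¹⁻¹ = c.symm x' := by group
    rwa [e2] at h3
  intro γ' hγ' x' hx'
  obtain ⟨x, hx, rfl⟩ := h2 x' hx'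
  obtain ⟨z, hz, e⟩ := key γ' hγ' x hx
  rw [e]
  exact h1 z hz

theorem e32_ess_conj {K : Type u} [Field K] {n : ℕ} [Fact (Nat.Prime 3)] (hK : HypG K 3 n) (hTI : StTI.{u})
    (hE31 : StE31.{u}) {F : FusionSystem (⊤ : Subgroup (GU K))} (hF : F.IsSaturated 3)
    (hsmall : ∀ E, F.IsEssential 3 E → ¬ Z4 K ≤ E → Nat.card E ≤ (3 ^ n) ^ 4) (hQ : ¬ F.IsEssential 3 (Qb K)) :
    ∀ E, F.IsEssential 3 E → (∃ R', F.IsConj (Qb K) R' ∧ R' ≤ E) → False := by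
  rintro E hE ⟨R', hR', hle⟩
  have hfinK : Finite K := hK.fin
  have hfin : Finite (GU K) := finite_GU hK
  have hS := isP hK
  have h3n : 3 ≤ 3 ^ n := by
    calc 3 = 3 ^ 1 := by norm_num
      _ ≤ 3 ^ n := Nat.pow_le_pow_right (by norm_num) hK.hn
  have hca : Nat.card (Qa K) = (3 ^ n) ^ 5 := by rw [card_Qa, hK.card]
  have hcb : Nat.card (Qb K) = (3 ^ n) ^ 5 := by rw [card_Qb, hK.card]
  have hcR : Nat.card R' = (3 ^ n) ^ 5 := by rw [← isConj_card_eq hR', hcb]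
  have hZ : Z4 K ≤ E := by
    by_contra hZ
    have h1 := hsmall E hE hZ
    have h2 := Subgroup.card_le_of_le hle
    have h4 : (3 ^ n) ^ 4 < (3 ^ n) ^ 5 := Nat.pow_lt_pow_right (by omega) (by norm_num)
    omega
  rcases hE31 hK (Cfsg.Agent.H245.PU.stEss F E hS hF hE) hZ with rfl | rfl
  · have h1 : R' = Qa K := Subgroup.eq_of_le_of_card_ge hle (by rw [hcR, hca])
    subst h1
    obtain ⟨φ, hφ, hr⟩ := hR'
    refine hQ (ess_of_norm hTI hK (by omega) hF (Or.inr rfl) fun h => ?_)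
    exact norm_of_ess hK hF hE (nn_transfer hS hF (top_le_norm _ (Or.inr rfl)) (top_le_norm _ (Or.inl rfl)) hφ hr h)
  · exact hQ hE

end Cfsg.Agent.H771.GT
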