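import Cfsg.Agent.H779.G2.Stmts3
import Cfsg.Agent.LieClassical.SympCount

/-!
# S5211: the order of a group of isometries of the form `Om` (helper771 for helper949)
-/

set_option autoImplicit false

namespace Cfsg.Agent.H771.GT

open Cfsg Cfsg.Agent.H779.G2 Matrix

universe u

section

variable {K : Type u} [Field K]

/-- the change of coordinates -/
def cmat : Matrix (Fin 4) (Fin 4) K := Matrix.diagonal ![1, -3, 1, 1]

/-- its inverse -/
def cinv : Matrix (Fin 4) (Fin 4) K := Matrix.diagonal ![1, (-3)⁻¹, 1, 1]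

/-- the reindexing -/
def e4 : Fin 4 ≃ Fin 2 ⊕ Fin 2 where
  toFun := ![Sum.inl 0, Sum.inl 1, Sum.inr 1, Sum.inr 0]
  invFun := Sum.elim ![0, 1] ![3, 2]
  left_inv := by intro i; fin_cases i <;> rfl
  right_inv := by intro i; rcases i with i | i <;> fin_cases i <;> rfl

/-- the form of Mathlib, reindexed -/
def jmat : Matrix (Fin 4) (Fin 4) K := !![0, 0, 0, -1; 0, 0, -1, 0; 0, 1, 0, 0; 1, 0, 0, 0]

theorem jmat_eq : (Matrix.J (Fin 2) K) = (jmat : Matrix (Fin 4) (Fin 4) K).submatrix e4.symm e4.symm := by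
  ext i j
  rcases i with i | i <;> rcases j with j | j <;> fin_cases i <;> fin_cases j <;>
    simp [Matrix.J, jmat, e4, Matrix.submatrix]

theorem cmat_cinv (h3 : (3 : K) ≠ 0) : (cmat : Matrix (Fin 4) (Fin 4) K) * cinv = 1 := by
  rw [cmat, cinv, Matrix.diagonal_mul_diagonal, ← Matrix.diagonal_one]
  congr 1
  funext i
  have h : (-3 : K) ≠ 0 := neg_ne_zero.2 h3
  fin_cases i
  · exact mul_one _
  · exact mul_inv_cancel₀ h
  · exact mul_one _
  · exact mul_one _

theorem cinv_cmat (h3 : (3 : K) ≠ 0) : (cinv : Matrix (Fin 4) (Fin 4) K) * cmat = 1 := by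
  rw [cmat, cinv, Matrix.diagonal_mul_diagonal, ← Matrix.diagonal_one]
  congr 1
  funext i
  have h : (-3 : K) ≠ 0 := neg_ne_zero.2 h3
  fin_cases i
  · exact mul_one _
  · exact inv_mul_cancel₀ h
  · exact mul_one _
  · exact mul_one _

theorem om_eq' : (cmat : Matrix (Fin 4) (Fin 4) K) * jmat * cmat = - Om := by
  ext i j
  fin_cases i <;> fin_cases j <;>
    simp [cmat, jmat, Om, Matrix.mul_apply, Matrix.diagonal]

theorem jmat_eq_om (h3 : (3 : K) ≠ 0) : (jmat : Matrix (Fin 4) (Fin 4) K) = cinv * (-Om) * cinv := by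
  rw [← om_eq']
  calc (jmat : Matrix (Fin 4) (Fin 4) K) = 1 * jmat * 1 := by rw [one_mul, mul_one]
    _ = (cinv * cmat) * jmat * (cmat * cinv) := by rw [cmat_cinv h3, cinv_cmat h3]
    _ = cinv * (cmat * jmat * cmat) * cinv := by simp only [mul_assoc]

theorem pres (h3 : (3 : K) ≠ 0) {g : Matrix (Fin 4) (Fin 4) K} (hg : g.transpose * Om * g = Om) :
    (cmat * g * cinv).transpose * jmat * (cmat * g * cinv) = jmat := by
  have t1 : (cmat : Matrix (Fin 4) (Fin 4) K).transpose = cmat := Matrix.diagonal_transpose _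
  have t2 : (cinv : Matrix (Fin 4) (Fin 4) K).transpose = cinv := Matrix.diagonal_transpose _
  have e1 := cmat_cinv (K := K) h3
  have e2 := cinv_cmat (K := K) h3
  rw [Matrix.transpose_mul, Matrix.transpose_mul, t1, t2]
  calc cinv * (g.transpose * cmat) * jmat * (cmat * g * cinv)
      = cinv * (g.transpose * (cmat * jmat * cmat) * g) * cinv := by simp only [mul_assoc]
    _ = cinv * (g.transpose * (-Om) * g) * cinv := by rw [om_eq']
    _ = cinv * (-Om) * cinv := by rw [mul_neg, neg_mul, hg]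
    _ = jmat := (jmat_eq_om h3).symm

theorem card_om {K : Type u} [Field K] [Finite K] (h3 : (3 : K) ≠ 0) (L : Subgroup (GL (Fin 4) K))
    (hL : ∀ g ∈ L, (g : Matrix (Fin 4) (Fin 4) K).transpose * Om * (g : Matrix (Fin 4) (Fin 4) K) = Om) :
    Nat.card L ∣ (Nat.card K) ^ 4 * ((Nat.card K) ^ 2 - 1) * ((Nat.card K) ^ 4 - 1) := by
  have := Fintype.ofFinite K
  let f : L →* Matrix.symplecticGroup (Fin 2) K :=
    { toFun := fun g => ⟨(cmat * ((g : GL (Fin 4) K) : Matrix (Fin 4) (Fin 4) K) * cinv).submatrix e4.symm e4.symm, by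
        rw [SymplecticGroup.mem_iff', jmat_eq, Matrix.transpose_submatrix, Matrix.submatrix_mul_equiv,
          Matrix.submatrix_mul_equiv, pres h3 (hL g g.2)]⟩
      map_one' := by
        apply Subtype.ext
        show (cmat * (1 : Matrix (Fin 4) (Fin 4) K) * cinv).submatrix e4.symm e4.symm = 1
        rw [mul_one, cmat_cinv h3, Matrix.submatrix_one_equiv]
      map_mul' := by
        intro g g'
        apply Subtype.ext
        show (cmat * (((g : GL (Fin 4) K) : Matrix (Fin 4) (Fin 4) K) * ((g' : GL (Fin 4) K) : Matrix (Fin 4) (Fin 4) K)) *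
          cinv).submatrix e4.symm e4.symm =
          (cmat * ((g : GL (Fin 4) K) : Matrix (Fin 4) (Fin 4) K) * cinv).submatrix e4.symm e4.symm *
          (cmat * ((g' : GL (Fin 4) K) : Matrix (Fin 4) (Fin 4) K) * cinv).submatrix e4.symm e4.symm
        rw [Matrix.submatrix_mul_equiv]
        congr 1
        calc cmat * (((g : GL (Fin 4) K) : Matrix (Fin 4) (Fin 4) K) * ((g' : GL (Fin 4) K) : Matrix (Fin 4) (Fin 4) K)) * cinv
            = cmat * ((g : GL (Fin 4) K) : Matrix (Fin 4) (Fin 4) K) * 1 *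
              ((g' : GL (Fin 4) K) : Matrix (Fin 4) (Fin 4) K) * cinv := by simp only [mul_assoc, one_mul]
          _ = cmat * ((g : GL (Fin 4) K) : Matrix (Fin 4) (Fin 4) K) * (cinv * cmat) *
              ((g' : GL (Fin 4) K) : Matrix (Fin 4) (Fin 4) K) * cinv := by rw [cinv_cmat h3]
          _ = _ := by simp only [mul_assoc] }
  have hf : Function.Injective f := by
    intro g g' hgg
    have h1 : (cmat * ((g : GL (Fin 4) K) : Matrix (Fin 4) (Fin 4) K) * cinv).submatrix e4.symm e4.symm =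
        (cmat * ((g' : GL (Fin 4) K) : Matrix (Fin 4) (Fin 4) K) * cinv).submatrix e4.symm e4.symm :=
      congrArg Subtype.val hgg
    have h2 : cmat * ((g : GL (Fin 4) K) : Matrix (Fin 4) (Fin 4) K) * cinv =
        cmat * ((g' : GL (Fin 4) K) : Matrix (Fin 4) (Fin 4) K) * cinv := by
      have h3 := congrArg (fun M => M.submatrix e4 e4) h1
      simpa using h3
    have h4 : ∀ x : Matrix (Fin 4) (Fin 4) K, cinv * (cmat * x * cinv) * cmat = x := by
      intro x
      calc cinv * (cmat * x * cinv) * cmat = (cinv * cmat) * x * (cinv * cmat) := by simp only [mul_assoc]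
        _ = x := by rw [cinv_cmat h3, one_mul, mul_one]
    have h5 := congrArg (fun x => cinv * x * cmat) h2
    simp only [h4] at h5
    exact Subtype.ext (Units.ext h5)
  have h1 := Subgroup.card_dvd_of_injective f hf
  have h2 := Cfsg.Agent.LieClassical.SympCount.card_symplecticGroup (F := K) 2
  rw [h2, Finset.prod_range_succ, Finset.prod_range_one, ← Nat.card_eq_fintype_card] at h1
  rw [mul_assoc]
  exact h1

end

end Cfsg.Agent.H771.GT
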