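import Cfsg.Agent.H771.GT.Tw

/-!
# S5211: the assembly for `q = 4`
-/

set_option autoImplicit false

namespace Cfsg.Agent.H771.GT

open Cfsg Cfsg.FusionSystem Cfsg.Agent.H779.G2 Cfsg.Agent.H756.PU Cfsg.Agent.H802 Cfsg.Agent.H103.GT

universe u

variable {K : Type u} [Field K]

/-! ### the field with four elements -/

theorem two_zero (hK : HypG K 2 2) : (2 : K) = 0 := by
  have := hK.char
  exact_mod_cast CharP.cast_eq_zero K 2

theorem cube_one (hK : HypG K 2 2) {x : K} (hx : x ≠ 0) : x ^ 3 = 1 := by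
  have := hK.fin
  have := Fintype.ofFinite K
  have h4 := FiniteField.pow_card_sub_one_eq_one x hx
  rw [← Nat.card_eq_fintype_card, hK.card] at h4
  exact h4

theorem fourth (hK : HypG K 2 2) (x : K) : x ^ 4 = x := by
  rcases eq_or_ne x 0 with rfl | hx
  · simp
  · linear_combination x * cube_one hK hx

theorem auto_auto (hK : HypG K 2 2) (τ : K ≃+* K) (x : K) : τ (τ x) = x := by
  have h2 := two_zero hK
  rcases eq_or_ne x 0 with rfl | hx
  · simp
  rcases eq_or_ne x 1 with rfl | hx1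
  · simp
  have e1 : x ^ 2 + x + 1 = 0 := by
    have h := cube_one hK hx
    have h3 : (x - 1) * (x ^ 2 + x + 1) = 0 := by linear_combination h
    exact (mul_eq_zero.1 h3).resolve_left (sub_ne_zero.2 hx1)
  have e2 : τ x ^ 2 + τ x + 1 = 0 := by
    have := congrArg τ e1
    simpa using this
  have e3 : (τ x - x) * (τ x + x + 1) = 0 := by linear_combination e2 - e1
  rcases mul_eq_zero.1 e3 with h | h
  · have h' : τ x = x := sub_eq_zero.1 h
    rw [h', h']
  · have h' : τ x = x ^ 2 := by linear_combination h - e1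
    rw [h', map_pow, h']
    linear_combination fourth hK x

/-- the elements of `D` are torus elements -/
theorem tor_of_mem (hK : HypG K 2 2) {D : Subgroup (MulAut (GU K))} (hD : D ≤ TT K)
    (hDc : (Nat.card D).Coprime 2) {d : MulAut (GU K)} (hd : d ∈ D) : ∃ s t, IsTor d s t (RingEquiv.refl K) := by
  have hfin : Finite K := hK.fin
  have key : ∀ (c : MulAut (GU K)), (∃ s t, IsTor c s t (RingEquiv.refl K)) →
      ∀ m : ℕ, ∃ s t, IsTor (c ^ m) s t (RingEquiv.refl K) := by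
    rintro c ⟨s, t, h⟩ m
    induction m with
    | zero => exact ⟨1, 1, by rw [pow_zero]; exact ⟨one_ne_zero, one_ne_zero, fun g => by simp, fun g => by simp, fun g => by simp, fun g => by simp,
        fun g => by simp, fun g => by simp⟩⟩
    | succ m ih =>
      obtain ⟨s', t', h'⟩ := ih
      rw [pow_succ]
      exact ⟨_, _, tor_mul h' h⟩
  rcases mem_TT (hD hd) with ⟨s, t, τ, h⟩ | ⟨s, t, τ, α', ρ, -, hρ, -⟩
  · have h2 : ∃ s t, IsTor (d ^ 2) s t (RingEquiv.refl K) := by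
      have h3 := tor_mul h h
      have e : τ.trans τ = RingEquiv.refl K := RingEquiv.ext fun x => auto_auto hK τ x
      rw [e, ← sq] at h3
      exact ⟨_, _, h3⟩
    have ho : Nat.Coprime 2 (orderOf d) := by
      have h4 : orderOf d ∣ Nat.card D := by
        have := orderOf_dvd_natCard (⟨d, hd⟩ : D)
        rwa [Subgroup.orderOf_mk] at this
      exact (Nat.Coprime.coprime_dvd_left h4 hDc).symm
    obtain ⟨m, hm⟩ := exists_pow_eq_self_of_coprime ho
    have := key _ h2 m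
    rwa [hm] at this
  · exfalso
    have h3 := hρ.three
    have h2 := two_zero hK
    have : (1 : K) = 0 := by linear_combination h3 - h2
    exact one_ne_zero this

theorem ce_comm (hK : HypG K 2 2) {D : Subgroup (MulAut (GU K))} (hD : D ≤ TT K)
    (hDc : (Nat.card D).Coprime 2) {k : K} {α : MulAut (GU K)} (hα : IsCe4 k α) : ∀ d ∈ D, α * d = d * α := by
  intro d hd
  obtain ⟨s, t, h⟩ := tor_of_mem hK hD hDc hd
  have hs := cube_one hK h.ne1
  refine ext_aut fun g => ⟨?_, ?_, ?_, ?_, ?_, ?_⟩ <;>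
    simp only [MulAut.mul_apply, hα.a, hα.b, hα.c, hα.d, hα.e, hα.f, h.a, h.b, h.c, h.d, h.e, h.f, RingEquiv.refl_apply]
  linear_combination (-t ^ 2 * k * g.b ^ 2) * hs

theorem sw_conj (hK : HypG K 2 2) {D : Subgroup (MulAut (GU K))} (hD : D ≤ TT K)
    (hDc : (Nat.card D).Coprime 2) {σ : MulAut (GU K)} (hσ : IsSw σ) : D.map (MulAut.conj σ).toMonoidHom ≤ TT K := by
  rintro _ ⟨d, hd, rfl⟩
  obtain ⟨s, t, h⟩ := tor_of_mem hK hD hDc hd
  have hs := cube_one hK h.ne1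
  obtain ⟨d', h'⟩ := exists_tor (RingEquiv.refl K) (pow_ne_zero 2 h.ne1) h.ne2
  have e : σ * d = d' * σ := by
    refine ext_aut fun g => ⟨?_, ?_, ?_, ?_, ?_, ?_⟩ <;>
      simp only [MulAut.mul_apply, hσ.a, hσ.b, hσ.c, hσ.d, hσ.e, hσ.f, h.a, h.b, h.c, h.d, h.e, h.f, h'.a, h'.b, h'.c,
        h'.d, h'.e, h'.f, RingEquiv.refl_apply]
    · ring
    · linear_combination (-s * t * g.c) * hs
    · linear_combination (-s ^ 3 * t * g.e) * hs
    · linear_combination (-s ^ 3 * t ^ 2 * g.f - s ^ 3 * t ^ 2 * g.c * g.d) * hs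
  have e2 : MulAut.conj σ d = d' := by
    rw [MulAut.conj_apply, e, mul_inv_cancel_right]
  show MulAut.conj σ d ∈ TT K
  rw [e2]
  exact Subgroup.subset_closure (Or.inl ⟨_, _, _, h'⟩)

/-- the pieces for `q = 4` -/
structure PiecesFour : Prop where
  base : Pieces.{u}
  real : StReal.{u}
  aut : StAut4.{u}
  lb4a : StLb4a.{u}
  lb4b : StLb4b.{u}
  la4 : StLa4.{u}

theorem char_of (H : Pieces.{u}) (hK : HypG K 2 2) {Q : Subgroup (GU K)} (hQ : Q = Qa K ∨ Q = Qb K) (α : MulAut (GU K)) :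
    Q.map α.toMonoidHom = Q := (H.ti hK (by norm_num) Q hQ).2.2.2.1 (by norm_num) α

/-- **the normal form**, `q = 4`, `Z₃` invariant -/
theorem norm_four (H : PiecesFour.{u}) (hK : HypG K 2 2) {F : FusionSystem (⊤ : Subgroup (GU K))} (hF : F.IsSaturated 2)
    (hna : ¬ ∀ γ ∈ F.autGroup (Qa K), NormAut ⊤ γ) (hnb : ¬ ∀ γ ∈ F.autGroup (Qb K), NormAut ⊤ γ)
    {D : Subgroup (MulAut (GU K))} (hD : D ≤ TT K) (hDc : (Nat.card D).Coprime 2)
    (hAF : AF F = (MulAut.conj : GU K →* MulAut (GU K)).range ⊔ D) (hZ : Inv (F.autGroup (Qb K)) (Z3 K)) :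
    Full D ∧ ∃ F' : FusionSystem (⊤ : Subgroup (GU K)), F'.IsSaturated 2 ∧ (F'.IsRealizable 2 ↔ F.IsRealizable 2) ∧
      AF F' = (MulAut.conj : GU K →* MulAut (GU K)).range ⊔ D ∧ F'.autGroup (Qa K) = Gen IsWa D ∧
      F'.autGroup (Qb K) = Gen IsWb D := by
  have : Fact (Nat.Prime 2) := ⟨hK.pp⟩
  have hfin : Finite (GU K) := finite_GU hK
  have PB := par_of hK hF (Or.inr rfl) hnb hD hDc hAF
  have PA := par_of hK hF (Or.inl rfl) hna hD hDc hAF
  obtain ⟨tb, gb⟩ := H.lb4b hK _ D PB hZ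
  obtain ⟨ta, ga⟩ := H.la4 hK _ D PA
  have hfull : Full D := full_of tb ta
  refine ⟨hfull, ?_⟩
  obtain ⟨k, hk⟩ := ga hfull
  obtain ⟨α, hα⟩ := (H.aut hK).2 k
  have ma := char_of H.base hK (Or.inl rfl) α
  have mb := char_of H.base hK (Or.inr rfl) α
  obtain ⟨ra, hra⟩ := exists_restr ma
  have hrb : IsR α (1 : MulAut (Qb K)) := by
    intro e
    have he : (e : GU K).b = 0 := e.2
    refine GU.ext (hα.a _).symm (hα.b _).symm (hα.c _).symm (hα.d _).symm (hα.e _).symm ?_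
    rw [hα.f, he]
    simp
  have hGa : F.autGroup (Qa K) = (Gen IsWa D).map (MulAut.conj ra).toMonoidHom := by
    refine eq_map_conj hra (P := IsCe4 k) ⟨α, hα⟩ ?_ hk
    intro β hβ g
    exact GU.ext (by rw [hβ.a, hα.a]) (by rw [hβ.b, hα.b]) (by rw [hβ.c, hα.c]) (by rw [hβ.d, hα.d])
      (by rw [hβ.e, hα.e]) (by rw [hβ.f, hα.f])
  have hGb : F.autGroup (Qb K) = (Gen IsWb D).map (MulAut.conj (1 : MulAut (Qb K))).toMonoidHom := by
    rw [gb hfull, map_one]
    exact (Subgroup.map_id _).symm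
  obtain ⟨F', h1, h2, h3, h4, h5⟩ := untwist hF ma mb hra hrb hGa hGb
  refine ⟨F', h1, h2, ?_, h4, h5⟩
  rw [h3, hAF, Subgroup.map_sup, map_conj_range, map_conj_comm (comm_inv (ce_comm hK hD hDc hα))]

theorem fin_four (H : PiecesFour.{u}) (hK : HypG K 2 2) {F : FusionSystem (⊤ : Subgroup (GU K))} (hF : F.IsSaturated 2)
    (hna : ¬ ∀ γ ∈ F.autGroup (Qa K), NormAut ⊤ γ) (hnb : ¬ ∀ γ ∈ F.autGroup (Qb K), NormAut ⊤ γ)
    {D : Subgroup (MulAut (GU K))} (hD : D ≤ TT K) (hDc : (Nat.card D).Coprime 2)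
    (hAF : AF F = (MulAut.conj : GU K →* MulAut (GU K)).range ⊔ D) (hZ : Inv (F.autGroup (Qb K)) (Z3 K)) :
    F.IsRealizable 2 := by
  have : Fact (Nat.Prime 2) := ⟨hK.pp⟩
  have hfin : Finite K := hK.fin
  obtain ⟨hfull, F1, hF1, hR1, hAF1, hGa1, hGb1⟩ := norm_four H hK hF hna hnb hD hDc hAF hZ
  obtain ⟨F2, hF2, hreal, hAF2, hwa, hwb⟩ := H.real hK D hD hDc hfull
  obtain ⟨wa, hwa'⟩ := exists_wa (K := K)
  obtain ⟨wb, hwb'⟩ := exists_wb (K := K)
  have Na' : ¬ ∀ γ ∈ F2.autGroup (Qa K), NormAut ⊤ γ := fun h => not_norm_wa hwa' (h wa (hwa wa hwa'))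
  have Nb' : ¬ ∀ γ ∈ F2.autGroup (Qb K), NormAut ⊤ γ := fun h => not_norm_wb hwb' (h wb (hwb wb hwb'))
  have hZ2 : Inv (F2.autGroup (Qb K)) (Z3 K) := by
    rcases H.lb4a hK _ D (par_of hK hF2 (Or.inr rfl) Nb' hD hDc hAF2) with h | h
    · exact h
    · exfalso
      have h1 := (h wb (hwb wb hwb') ⟨⟨0, 0, 1, 0, 0, 0⟩, rfl⟩ rfl rfl).1
      rw [hwb'.a] at h1
      exact one_ne_zero (neg_eq_zero.1 h1)
  obtain ⟨-, F3, hF3, hR3, hAF3, hGa3, hGb3⟩ := norm_four H hK hF2 Na' Nb' hD hDc hAF2 hZ2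
  have h13 : F1 = F3 := eq_of_same H.base hK (by norm_num) (by norm_num) hF1 hF3 (hAF1.trans hAF3.symm)
    (hGa1.trans hGa3.symm) (hGb1.trans hGb3.symm)
  rw [← hR1, h13, hR3]
  exact hreal

/-- **`q = 4`** -/
theorem stMain4_of (H : PiecesFour.{u}) : StMain4.{u} := by
  intro K _ p n _ hK hpn F hF _
  obtain ⟨rfl, rfl⟩ := hpn
  have hfin : Finite (GU K) := finite_GU hK
  refine red_of H.base hK (by norm_num) (by norm_num) ?_ F hF
  intro F hF hEa hEb hess D hD hDc hAF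
  have hnb := norm_of_ess hK hF hEb
  have hna := norm_of_ess hK hF hEa
  rcases H.lb4a hK _ D (par_of hK hF (Or.inr rfl) hnb hD hDc hAF) with h | h
  · exact fin_four H hK hF hna hnb hD hDc hAF h
  · obtain ⟨σ, hσ⟩ := (H.aut hK).1
    have mb := char_of H.base hK (Or.inr rfl) σ
    obtain ⟨F', hF', hR, hAF', hess', hQ⟩ := H771.P4.exists_twist F σ hF
    have hEa' : F'.IsEssential 2 (Qa K) := by
      have := (hess' (Qa K)).1 hEa
      rwa [char_of H.base hK (Or.inl rfl)] at this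
    have hEb' : F'.IsEssential 2 (Qb K) := by
      have := (hess' (Qb K)).1 hEb
      rwa [char_of H.base hK (Or.inr rfl)] at this
    obtain ⟨t, ht⟩ := exists_restr mb
    rw [← hR]
    refine fin_four H hK hF' (norm_of_ess hK hF' hEa') (norm_of_ess hK hF' hEb') (D := D.map (MulAut.conj σ).toMonoidHom)
      (sw_conj hK hD hDc hσ) ?_ ?_ ?_
    · have : Nat.card (D.map (MulAut.conj σ).toMonoidHom) = Nat.card D :=
        (Nat.card_congr (D.equivMapOfInjective _ (MulAut.conj σ).injective).toEquiv).symm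
      rwa [this]
    · rw [hAF', hAF, Subgroup.map_sup, map_conj_range]
    · refine ⟨Z3_le_Qb, ?_⟩
      rw [hQ (Qb K) t mb ht]
      rintro _ ⟨γ, hγ, rfl⟩ e he
      obtain ⟨ea, eb, ec⟩ := mem_Z3.1 he
      have h1 : ((t⁻¹ e : Qb K) : GU K).a = 0 ∧ ((t⁻¹ e : Qb K) : GU K).d = 0 := by
        have h2 : (e : GU K) = σ (t⁻¹ e : Qb K) := by rw [← ht, MulAut.apply_inv_self]
        constructor
        · have h3 := congrArg GU.a h2
          rw [hσ.a, ea] at h3
          exact pow_eq_zero_iff (n := 2) (by norm_num) |>.1 h3.symm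
        · have h3 := congrArg GU.c h2
          rw [hσ.c, ec] at h3
          exact h3.symm
      obtain ⟨h3, h4⟩ := h γ hγ (t⁻¹ e) h1.1 h1.2
      show ((t (γ (t⁻¹ e)) : Qb K) : GU K) ∈ Z3 K
      rw [ht]
      refine mem_Z3.2 ⟨?_, ?_, ?_⟩
      · rw [hσ.a, h3]
        simp
      · rw [hσ.b]
        exact (γ (t⁻¹ e)).2
      · rw [hσ.c, h4]

end Cfsg.Agent.H771.GT
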