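import Cfsg.Agent.H771.GT.Tw

/-!
# S5211: the assembly for `q = 3`
-/

set_option autoImplicit false

namespace Cfsg.Agent.H771.GT

open Cfsg Cfsg.FusionSystem Cfsg.Agent.H779.G2 Cfsg.Agent.H756.PU Cfsg.Agent.H802 Cfsg.Agent.H103.GT

universe u

/-! ### transport of automorphisms between two subgroups -/

section

variable {G0 : Type u} [Group G0]

/-- `γ'` is `β γ β⁻¹` -/
def Rel (β : MulAut G0) {Q Q' : Subgroup G0} (γ : MulAut Q) (γ' : MulAut Q') : Prop :=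
  ∀ (x : Q) (y : Q'), (y : G0) = β x → ((γ' y : Q') : G0) = β (γ x : Q)

theorem Rel.comp {β β' : MulAut G0} {Q Q' Q'' : Subgroup G0} {γ : MulAut Q} {γ' : MulAut Q'} {γ'' : MulAut Q''}
    (hQ : Q.map β.toMonoidHom = Q') (h : Rel β γ γ') (h' : Rel β' γ' γ'') : Rel (β' * β) γ γ'' := by
  intro x z hz
  have hy : β x ∈ Q' := by rw [← hQ]; exact ⟨x, x.2, rfl⟩
  have h1 := h x ⟨β x, hy⟩ rfl
  have h2 := h' ⟨β x, hy⟩ z hz
  rw [h2, h1]
  rfl

theorem Rel.inv {β : MulAut G0} {Q Q' : Subgroup G0} {γ : MulAut Q} {γ' : MulAut Q'}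
    (h : Rel β γ γ') : Rel β⁻¹ γ' γ := by
  intro y x hx
  have hy : (y : G0) = β x := by rw [hx, MulAut.apply_inv_self]
  rw [h x y hy, MulAut.inv_apply_self]

theorem exists_rel (β : MulAut G0) {Q Q' : Subgroup G0} (hQ : Q.map β.toMonoidHom = Q') (γ : MulAut Q) :
    ∃ γ' : MulAut Q', Rel β γ γ' := by
  let e : Q ≃* Q' := (Q.equivMapOfInjective β.toMonoidHom β.injective).trans (MulEquiv.subgroupCongr hQ)
  have he : ∀ x : Q, ((e x : Q') : G0) = β x := fun x => rfl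
  refine ⟨MulAut.congr e γ, ?_⟩
  intro x y hy
  have h1 : y = e x := Subtype.ext hy
  subst h1
  show ((e (γ (e.symm (e x))) : Q') : G0) = _
  rw [MulEquiv.symm_apply_apply, he]

theorem Rel.mem {F : FusionSystem (⊤ : Subgroup G0)} {β : MulAut G0} (hβ : β ∈ AF F) {Q Q' : Subgroup G0}
    (hQ : Q.map β.toMonoidHom = Q') {γ : MulAut Q} {γ' : MulAut Q'} (h : Rel β γ γ') (hγ : γ ∈ F.autGroup Q) :
    γ' ∈ F.autGroup Q' := by
  have hφ : (topHom β).comp (Subgroup.inclusion (le_top : Q ≤ ⊤)) ∈ F.Hom Q :=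
    restrict_mem (mem_AF_iff.1 hβ) le_top
  have hr : ((topHom β).comp (Subgroup.inclusion (le_top : Q ≤ ⊤))).range = Q' := by
    rw [← hQ]
    ext y
    constructor
    · rintro ⟨z, rfl⟩
      exact ⟨z, z.2, rfl⟩
    · rintro ⟨z, hz, rfl⟩
      exact ⟨⟨z, hz⟩, rfl⟩
  have h1 := congr_mem_autGroup hφ hr hγ
  have h2 : MulAut.congr (isoOf _ (F.injective_of_mem hφ) hr) γ = γ' := by
    apply MulEquiv.ext
    intro y
    obtain ⟨z, rfl⟩ := (isoOf _ (F.injective_of_mem hφ) hr).surjective y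
    apply Subtype.ext
    rw [h z _ rfl]
    show ((isoOf _ (F.injective_of_mem hφ) hr (γ ((isoOf _ (F.injective_of_mem hφ) hr).symm
      (isoOf _ (F.injective_of_mem hφ) hr z))) : Q') : G0) = _
    rw [MulEquiv.symm_apply_apply]
    rfl
  rwa [h2] at h1

/-- if `t` is the restriction of `θ` then `γ'` is `t γ t⁻¹` -/
theorem Rel.mem_map {θ : MulAut G0} {Q : Subgroup G0} {t : MulAut Q} (ht : ∀ e : Q, ((t e : Q) : G0) = θ e)
    {G : Subgroup (MulAut Q)} {γ γ' : MulAut Q} (h : Rel θ γ γ') :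
    γ' ∈ G.map (MulAut.conj t).toMonoidHom ↔ γ ∈ G := by
  have e : γ' = MulAut.conj t γ := by
    apply MulEquiv.ext
    intro y
    apply Subtype.ext
    have h1 : (y : G0) = θ (t⁻¹ y : Q) := by rw [← ht, MulAut.apply_inv_self]
    rw [h _ _ h1, ← ht]
    rfl
  constructor
  · rintro ⟨δ, hδ, h1⟩
    have h2 : δ = γ := by
      apply (MulAut.conj t).injective
      rw [← e]
      exact h1
    rwa [← h2]
  · intro hγ
    exact ⟨γ, hγ, e.symm⟩

end

variable {K : Type u} [Field K]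

/-! ### the field with three elements -/

theorem three_zero (hK : HypG K 3 1) : (3 : K) = 0 := by
  have := hK.char
  exact_mod_cast CharP.cast_eq_zero K 3

theorem sq_one (hK : HypG K 3 1) {x : K} (hx : x ≠ 0) : x ^ 2 = 1 := by
  have := hK.fin
  have := Fintype.ofFinite K
  have h4 := FiniteField.pow_card_sub_one_eq_one x hx
  rw [← Nat.card_eq_fintype_card, hK.card] at h4
  exact h4

theorem cube_self (hK : HypG K 3 1) (x : K) : x ^ 3 = x := by
  rcases eq_or_ne x 0 with rfl | hx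
  · simp
  · linear_combination x * sq_one hK hx

theorem auto_self (hK : HypG K 3 1) (τ : K ≃+* K) (x : K) : τ x = x := by
  rcases eq_or_ne x 0 with rfl | hx
  · simp
  have h : (x - 1) * (x + 1) = 0 := by linear_combination sq_one hK hx
  rcases mul_eq_zero.1 h with h1 | h1
  · rw [sub_eq_zero.1 h1, map_one]
  · rw [eq_neg_of_add_eq_zero_left h1, map_neg, map_one]

theorem ce_tor (hK : HypG K 3 1) {s t : K} {τ : K ≃+* K} {d : MulAut (GU K)} (h : IsTor d s t τ) {k k' : K}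
    {α : MulAut (GU K)} (hα : IsCe3 k k' α) : α * d = d * α := by
  have hs := sq_one hK h.ne1
  have ht := sq_one hK h.ne2
  refine ext_aut fun g => ⟨?_, ?_, ?_, ?_, ?_, ?_⟩ <;>
    simp only [MulAut.mul_apply, hα.a, hα.b, hα.c, hα.d, hα.e, hα.f, h.a, h.b, h.c, h.d, h.e, h.f, auto_self hK τ]
  · linear_combination (-k' * t * g.b) * hs
  · linear_combination (-k * s * g.a) * hs - k * s ^ 3 * g.a * ht

theorem gr_ce (hK : HypG K 3 1) {ρ : MulAut (GU K)} (hρ : IsGr ρ) {k k' : K}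
    {α α' : MulAut (GU K)} (hα : IsCe3 k k' α) (hα' : IsCe3 (-k') (-k) α') : ρ * α = α' * ρ := by
  refine ext_aut fun g => ⟨?_, ?_, ?_, ?_, ?_, ?_⟩ <;>
    simp only [MulAut.mul_apply, hα.a, hα.b, hα.c, hα.d, hα.e, hα.f, hα'.a, hα'.b, hα'.c, hα'.d, hα'.e, hα'.f,
      hρ.a, hρ.b, hρ.c, hρ.d, hρ.e, hρ.f]
  · linear_combination k * cube_self hK g.a
  · linear_combination cube_self hK g.d - cube_self hK (g.d + k' * g.b)

/-- an element of `TT K` commutes with `ζ` or swaps the parameters -/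
theorem tt_ce (hK : HypG K 3 1) {d : MulAut (GU K)} (hd : d ∈ TT K) :
    (∀ k k' α, IsCe3 k k' α → α * d = d * α) ∨
      ((Qb K).map d.toMonoidHom = Qa K ∧ ∀ k k' α α', IsCe3 k k' α → IsCe3 (-k') (-k) α' → d * α = α' * d) := by
  have hfin : Finite K := hK.fin
  have hfin' : Finite (GU K) := finite_GU hK
  rcases mem_TT hd with ⟨s, t, τ, h⟩ | ⟨s, t, τ, δ, ρ, h, hρ, rfl⟩
  · exact Or.inl fun k k' α hα => ce_tor hK h hα
  · right
    constructor
    · have hle : (Qb K).map (δ * ρ).toMonoidHom ≤ Qa K := by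
        rintro _ ⟨g, hg, rfl⟩
        have hg' : g.b = 0 := hg
        show (δ (ρ g)).a = 0
        rw [h.a, hρ.a, hg']
        simp
      apply Subgroup.eq_of_le_of_card_ge hle
      have h1 : Nat.card ((Qb K).map (δ * ρ).toMonoidHom) = Nat.card (Qb K) :=
        (Nat.card_congr ((Qb K).equivMapOfInjective _ (δ * ρ).injective).toEquiv).symm
      rw [h1]
      -- the two groups have the same order
      have h2 : (Qa K).map (ρ⁻¹ * δ⁻¹ : MulAut (GU K)).toMonoidHom ≤ Qb K := by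
        rintro _ ⟨g, hg, rfl⟩
        have hg' : g.a = 0 := hg
        show (ρ⁻¹ (δ⁻¹ g)).b = 0
        have h3 : (δ (ρ (ρ⁻¹ (δ⁻¹ g)))).a = g.a := by rw [MulAut.apply_inv_self, MulAut.apply_inv_self]
        rw [h.a, hρ.a, hg'] at h3
        have h4 := (mul_eq_zero.1 h3).resolve_left h.ne1
        exact (map_eq_zero_iff τ τ.injective).1 h4
      have h5 := Subgroup.card_le_of_le h2
      rwa [show Nat.card ((Qa K).map (ρ⁻¹ * δ⁻¹ : MulAut (GU K)).toMonoidHom) = Nat.card (Qa K) from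
        (Nat.card_congr ((Qa K).equivMapOfInjective _ (ρ⁻¹ * δ⁻¹ : MulAut (GU K)).injective).toEquiv).symm] at h5
    · intro k k' α α' hα hα'
      rw [mul_assoc, gr_ce hK hρ hα hα', ← mul_assoc, ← mul_assoc, ce_tor hK h hα']

/-- the uniqueness of the parameter -/
theorem ce_zero (h0 : StLb0.{u}) (hK : HypG K 3 1) {Γ : Subgroup (MulAut (Qb K))} {D : Subgroup (MulAut (GU K))}
    (P : Par 3 (Qb K) Γ D) {m m' : K} {η : MulAut (GU K)} (hη : IsCe3 m m' η) {wb γ : MulAut (Qb K)} (hwb : IsWb wb)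
    (hw : wb ∈ Γ) (hr : Rel η wb γ) (hγ : γ ∈ Γ) : m = 0 := by
  have h3 := three_zero hK
  obtain ⟨h1, -⟩ := h0 hK Γ P.indu P.syl P.nn (by
    intro γ hγ hN
    obtain ⟨x, d, -, h⟩ := P.norm γ hγ hN
    exact ⟨MulAut.conj x * d, h⟩)
  -- the values of `γ`
  have key : ∀ z y : Qb K, (z : GU K) = η y → ((γ z : Qb K) : GU K) = η (wb y : Qb K) := fun z y h => hr y z h
  have hy : ∀ z : Qb K, ∃ y : Qb K, (z : GU K) = η y := by
    intro z
    have hz : (z : GU K).b = 0 := z.2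
    refine ⟨⟨η⁻¹ z, ?_⟩, (MulAut.apply_inv_self _ _ _).symm⟩
    show (η⁻¹ (z : GU K)).b = 0
    rw [← hη.b, MulAut.apply_inv_self, hz]
  have hinn : γ * wb⁻¹ ∈ Inn (Qb K) := by
    refine h1 _ (Γ.mul_mem hγ (Γ.inv_mem hw)) fun g => ?_
    obtain ⟨y, hy⟩ := hy (wb⁻¹ g)
    have h2 : ((γ * wb⁻¹ : MulAut (Qb K)) g : GU K) = η (wb y : Qb K) := key _ _ hy
    have h4 : g = wb (wb⁻¹ g) := (MulAut.apply_inv_self _ _ _).symm
    rw [h2, hη.a, hη.c, hwb.a, hwb.c]
    have h5 : (g : GU K).a = - (wb⁻¹ g : Qb K).1.c := by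
      conv_lhs => rw [h4]
      exact hwb.a _
    have h6 : (g : GU K).c = (wb⁻¹ g : Qb K).1.a := by
      conv_lhs => rw [h4]
      exact hwb.c _
    rw [h5, h6, hy, hη.a, hη.c]
    exact ⟨rfl, rfl⟩
  obtain ⟨h, hh⟩ := hinn
  let z : Qb K := ⟨⟨1, 0, 0, 0, 0, 0⟩, rfl⟩
  obtain ⟨y, hy⟩ := hy z
  have e1 : ((γ z : Qb K) : GU K) = (h : GU K) * (wb z : Qb K) * (h : GU K)⁻¹ := by
    have e2 : γ z = (γ * wb⁻¹) (wb z) := by rw [MulAut.mul_apply, MulAut.inv_apply_self]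
    rw [e2, ← hh]
    rfl
  have e3 := congrArg GU.e (key z y hy)
  rw [e1, cj_e, hη.e, hwb.e, hwb.e] at e3
  have hhb : (h : GU K).b = 0 := h.2
  have hwbb : ((wb z : Qb K) : GU K).b = 0 := (wb z).2
  have y1 : (y : GU K).a = 1 := by
    have := congrArg GU.a hy
    rw [hη.a] at this
    exact this.symm
  have y2 : (0 : K) = (y : GU K).f + m * (y : GU K).a := by
    have := congrArg GU.f hy
    rw [hη.f] at this
    exact this
  rw [hhb, hwbb] at e3
  have z1 : (z : GU K).a = 1 := rfl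
  have z2 : (z : GU K).c = 0 := rfl
  have z3 : (z : GU K).f = 0 := rfl
  rw [z3, z2, y1] at e3
  rw [y1] at y2
  linear_combination -e3 - y2 + (-2 * (h : GU K).a * (h : GU K).c * ((wb z : Qb K) : GU K).a - (h : GU K).a * ((wb z : Qb K) : GU K).d
    + (h : GU K).a ^ 2 * ((wb z : Qb K) : GU K).c + (h : GU K).c * ((wb z : Qb K) : GU K).a ^ 2 + (h : GU K).d * ((wb z : Qb K) : GU K).a
    - (y : GU K).c ^ 2) * h3

/-- the pieces for `q = 3` -/
structure PiecesThree : Prop where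
  base : Pieces.{u}
  real : StReal.{u}
  aut : StAut3.{u}
  lb0 : StLb0.{u}
  lb3 : StLb3.{u}
  la3 : StLa3.{u}

theorem ce_map [Finite (GU K)] {k k' : K} {α : MulAut (GU K)} (hα : IsCe3 k k' α) :
    (Qa K).map α.toMonoidHom = Qa K ∧ (Qb K).map α.toMonoidHom = Qb K := by
  constructor
  · refine map_eq_of fun g hg => ?_
    show (α g).a = 0
    rw [hα.a]
    exact hg
  · refine map_eq_of fun g hg => ?_
    show (α g).b = 0
    rw [hα.b]
    exact hg

/-- the shape of the automizers, `q = 3` -/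
theorem shape_three (H : PiecesThree.{u}) (hK : HypG K 3 1) {Γa : Subgroup (MulAut (Qa K))} {Γb : Subgroup (MulAut (Qb K))}
    {D : Subgroup (MulAut (GU K))} (PA : Par 3 (Qa K) Γa D) (PB : Par 3 (Qb K) Γb D) :
    Full D ∧ ∃ k k' : K, ∀ α : MulAut (GU K), IsCe3 k k' α → ∃ (ra : MulAut (Qa K)) (rb : MulAut (Qb K)),
      IsR α ra ∧ IsR α rb ∧ Γa = (Gen IsWa D).map (MulAut.conj ra).toMonoidHom ∧
      Γb = (Gen IsWb D).map (MulAut.conj rb).toMonoidHom := by
  have hfin : Finite (GU K) := finite_GU hK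
  obtain ⟨tb, gb⟩ := H.lb3 hK _ D PB
  obtain ⟨ta, ga⟩ := H.la3 hK _ D PA
  have hfull : Full D := full_of tb ta
  refine ⟨hfull, ?_⟩
  obtain ⟨k, hk⟩ := gb hfull
  obtain ⟨k', hk'⟩ := ga hfull
  refine ⟨k, k', fun α hα => ?_⟩
  obtain ⟨ma, mb⟩ := ce_map hα
  obtain ⟨ra, hra⟩ := exists_restr ma
  obtain ⟨rb, hrb⟩ := exists_restr mb
  refine ⟨ra, rb, hra, hrb, ?_, ?_⟩
  · refine eq_map_conj hra (P := IsCe3 0 k') (H.aut hK 0 k') ?_ hk'
    intro β hβ g
    have hg : (g : GU K).a = 0 := g.2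
    exact GU.ext (by rw [hβ.a, hα.a]) (by rw [hβ.b, hα.b]) (by rw [hβ.c, hα.c]) (by rw [hβ.d, hα.d])
      (by rw [hβ.e, hα.e]) (by rw [hβ.f, hα.f, hg]; ring)
  · refine eq_map_conj hrb (P := IsCe3 k 0) (H.aut hK k 0) ?_ hk
    intro β hβ g
    have hg : (g : GU K).b = 0 := g.2
    exact GU.ext (by rw [hβ.a, hα.a]) (by rw [hβ.b, hα.b]) (by rw [hβ.c, hα.c]) (by rw [hβ.d, hα.d, hg]; ring)
      (by rw [hβ.e, hα.e]) (by rw [hβ.f, hα.f])

theorem gen_le {p : ℕ} {Q : Subgroup (GU K)} {Γ : Subgroup (MulAut Q)} {D : Subgroup (MulAut (GU K))} (P : Par p Q Γ D)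
    {W : MulAut Q → Prop} (hW : ∀ γ, W γ → γ ∈ Γ) : Gen W D ≤ Γ := by
  refine (Subgroup.closure_le _).2 ?_
  rintro γ ((h | h) | ⟨d, hd, h⟩)
  · exact P.indu h
  · exact hW γ h
  · exact P.D_res d hd γ h

theorem eq_of_map_conj {G : Type*} [Group G] [Finite G] {Γ H : Subgroup G} {t : G} (h : Γ = H.map (MulAut.conj t).toMonoidHom)
    (hle : H ≤ Γ) : Γ = H := by
  symm
  apply Subgroup.eq_of_le_of_card_ge hle
  rw [h]
  exact (Nat.card_congr (H.equivMapOfInjective _ (MulAut.conj t).injective).toEquiv).ge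

/-- **`q = 3`** -/
theorem stMain3_of (H : PiecesThree.{u}) : StMain3.{u} := by
  intro K _ p n _ hK hpn F hF _
  obtain ⟨rfl, rfl⟩ := hpn
  have hfin : Finite (GU K) := finite_GU hK
  have hfinK : Finite K := hK.fin
  refine red_of H.base hK (by norm_num) (by norm_num) ?_ F hF
  intro F hF hEa hEb hess D hD hDc hAF
  have PB := par_of hK hF (Or.inr rfl) (norm_of_ess hK hF hEb) hD hDc hAF
  have PA := par_of hK hF (Or.inl rfl) (norm_of_ess hK hF hEa) hD hDc hAF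
  obtain ⟨hfull, k, k', hkk⟩ := shape_three H hK PA PB
  -- the standard system
  obtain ⟨F', hF', hreal, hAF', hwa, hwb⟩ := H.real hK D hD hDc hfull
  obtain ⟨wa, hwa'⟩ := exists_wa (K := K)
  obtain ⟨wb, hwb'⟩ := exists_wb (K := K)
  have Na' : ¬ ∀ γ ∈ F'.autGroup (Qa K), NormAut ⊤ γ := fun h => not_norm_wa hwa' (h wa (hwa wa hwa'))
  have Nb' : ¬ ∀ γ ∈ F'.autGroup (Qb K), NormAut ⊤ γ := fun h => not_norm_wb hwb' (h wb (hwb wb hwb'))
  have PB' := par_of hK hF' (Or.inr rfl) Nb' hD hDc hAF'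
  have PA' := par_of hK hF' (Or.inl rfl) Na' hD hDc hAF'
  obtain ⟨-, l, l', hll⟩ := shape_three H hK PA' PB'
  have hstd : F'.autGroup (Qa K) = Gen IsWa D ∧ F'.autGroup (Qb K) = Gen IsWb D := by
    obtain ⟨β, hβ⟩ := H.aut hK l l'
    obtain ⟨ra, rb, -, -, h1, h2⟩ := hll β hβ
    exact ⟨eq_of_map_conj h1 (gen_le PA' hwa), eq_of_map_conj h2 (gen_le PB' hwb)⟩
  obtain ⟨hsa, hsb⟩ := hstd
  -- the parameters
  obtain ⟨ζ, hζ⟩ := H.aut hK k k'
  obtain ⟨ra, rb, hra, hrb, hGa, hGb⟩ := hkk ζ hζ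
  obtain ⟨ma, mb⟩ := ce_map hζ
  have hcomm : ∀ d ∈ D, ζ * d = d * ζ := by
    intro d hd
    rcases tt_ce hK (hD hd) with h | ⟨hmap, h⟩
    · exact h k k' ζ hζ
    · -- `ζ' = ζ_{-k', -k}`
      obtain ⟨ζ', hζ'⟩ := H.aut hK (-k') (-k)
      have e1 : d * ζ = ζ' * d := h k k' ζ ζ' hζ hζ'
      have e2 : d * ζ' = ζ * d := by
        refine h (-k') (-k) ζ' ζ hζ' ?_
        rw [neg_neg, neg_neg]
        exact hζ
      -- `η = ζ⁻¹ ζ' = ζ_{m, m}`
      have hη : IsCe3 (-k' - k) (-k - k') (ζ⁻¹ * ζ') := by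
        have e3 : ∀ g, ζ ((ζ⁻¹ * ζ') g) = ζ' g := fun g => by rw [MulAut.mul_apply, MulAut.apply_inv_self]
        have ea : ∀ g : GU K, ((ζ⁻¹ * ζ') g).a = g.a := fun g => by rw [← hζ.a, e3, hζ'.a]
        have eb : ∀ g : GU K, ((ζ⁻¹ * ζ') g).b = g.b := fun g => by rw [← hζ.b, e3, hζ'.b]
        refine ⟨ea, eb, fun g => by rw [← hζ.c, e3, hζ'.c], fun g => ?_, fun g => by rw [← hζ.e, e3, hζ'.e],
          fun g => ?_⟩
        · have h5 := hζ.d ((ζ⁻¹ * ζ') g)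
          rw [e3, hζ'.d, eb] at h5
          linear_combination -h5
        · have h5 := hζ.f ((ζ⁻¹ * ζ') g)
          rw [e3, hζ'.f, ea] at h5
          linear_combination -h5
      have hdF' : d ∈ AF F' := by rw [hAF']; exact Subgroup.mem_sup_right hd
      have hdF : d⁻¹ ∈ AF F := by rw [hAF]; exact Subgroup.inv_mem _ (Subgroup.mem_sup_right hd)
      have hmap' : (Qa K).map (d⁻¹ : MulAut (GU K)).toMonoidHom = Qb K := by
        rw [← hmap, Subgroup.map_map]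
        have : (d⁻¹ : MulAut (GU K)).toMonoidHom.comp d.toMonoidHom = MonoidHom.id _ := by
          ext x : 1
          exact MulAut.inv_apply_self _ _ _
        rw [this, Subgroup.map_id]
      have hwb0 : wb ∈ F'.autGroup (Qb K) := hwb wb hwb'
      obtain ⟨γ1, r1⟩ := exists_rel d hmap wb
      have m1 : γ1 ∈ Gen IsWa D := by
        rw [← hsa]
        exact r1.mem hdF' hmap hwb0
      obtain ⟨γ2, r2⟩ := exists_rel ζ ma γ1
      have m2 : γ2 ∈ F.autGroup (Qa K) := by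
        rw [hGa]
        exact (r2.mem_map hra).2 m1
      obtain ⟨γ3, r3⟩ := exists_rel d⁻¹ hmap' γ2
      have m3 : γ3 ∈ F.autGroup (Qb K) := r3.mem hdF hmap' m2
      obtain ⟨γ4, r4⟩ := exists_rel ζ⁻¹ (map_inv_eq mb) γ3
      have m4 : γ4 ∈ Gen IsWb D := by
        rw [hGb] at m3
        have r5 := r4.inv
        rw [inv_inv] at r5
        exact (r5.mem_map hrb).1 m3
      have r : Rel (ζ⁻¹ * ζ') wb γ4 := by
        have r6 := Rel.comp hmap r1 (Rel.comp ma r2 (Rel.comp hmap' r3 r4))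
        have e7 : ζ⁻¹ * d⁻¹ * ζ * d = ζ⁻¹ * ζ' := by
          have e8 : ζ * d = d * ζ' := e2.symm
          rw [mul_assoc, e8, mul_assoc, inv_mul_cancel_left]
        rwa [e7] at r6
      have hm : -k' - k = 0 := ce_zero H.lb0 hK PB' hη hwb' hwb0 r (by rw [hsb]; exact m4)
      have hζζ : ζ' = ζ := by
        have h6 : -k' = k := by linear_combination hm
        have h7 : -k = k' := by linear_combination hm
        rw [h6, h7] at hζ'
        refine ext_aut fun g => ⟨?_, ?_, ?_, ?_, ?_, ?_⟩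
        · rw [hζ.a, hζ'.a]
        · rw [hζ.b, hζ'.b]
        · rw [hζ.c, hζ'.c]
        · rw [hζ.d, hζ'.d]
        · rw [hζ.e, hζ'.e]
        · rw [hζ.f, hζ'.f]
      rw [e1, hζζ]
  obtain ⟨F1, hF1, hR1, hAF1, hGa1, hGb1⟩ := untwist hF ma mb hra hrb hGa hGb
  have hAF1' : AF F1 = (MulAut.conj : GU K →* MulAut (GU K)).range ⊔ D := by
    rw [hAF1, hAF, Subgroup.map_sup, map_conj_range, map_conj_comm (comm_inv hcomm)]
  have h13 : F1 = F' := eq_of_same H.base hK (by norm_num) (by norm_num) hF1 hF' (hAF1'.trans hAF'.symm)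
    (hGa1.trans hsa.symm) (hGb1.trans hsb.symm)
  rw [← hR1, h13]
  exact hreal

end Cfsg.Agent.H771.GT
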