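import Cfsg.Agent.H103.GT.Asm
import Cfsg.Agent.H771.P4.Twist
import Cfsg.Agent.H779.G2.Stmts3

/-!
# S5211: twisting systems over `GU K` by automorphisms preserving `Q_a`, `Q_b`

Common tools for `q = 3, 4`: restrictions, `Γ = t G t⁻¹`, twisting by an automorphism commuting with `D`.
-/

set_option autoImplicit false

namespace Cfsg.Agent.H771.GT

open Cfsg Cfsg.FusionSystem Cfsg.Agent.H779.G2 Cfsg.Agent.H756.PU Cfsg.Agent.H802 Cfsg.Agent.H103.GT

universe u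

variable {K : Type u} [Field K]

theorem map_eq_of [Finite (GU K)] {Q : Subgroup (GU K)} {α : MulAut (GU K)} (h : ∀ g ∈ Q, α g ∈ Q) :
    Q.map α.toMonoidHom = Q := by
  apply Subgroup.eq_of_le_of_card_ge
  · rintro _ ⟨g, hg, rfl⟩
    exact h g hg
  · exact (Nat.card_congr (Q.equivMapOfInjective α.toMonoidHom α.injective).toEquiv).le

theorem map_inv_eq {Q : Subgroup (GU K)} {α : MulAut (GU K)} (h : Q.map α.toMonoidHom = Q) :
    Q.map (α⁻¹ : MulAut (GU K)).toMonoidHom = Q := by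
  conv_lhs => rw [← h]
  rw [Subgroup.map_map]
  have : (α⁻¹ : MulAut (GU K)).toMonoidHom.comp α.toMonoidHom = MonoidHom.id _ := by
    ext x : 1
    exact MulAut.inv_apply_self _ _ _
  rw [this, Subgroup.map_id]

theorem exists_restr {Q : Subgroup (GU K)} {α : MulAut (GU K)} (h : Q.map α.toMonoidHom = Q) :
    ∃ t : MulAut Q, IsR α t :=
  ⟨(Q.equivMapOfInjective α.toMonoidHom α.injective).trans (MulEquiv.subgroupCongr h), fun _ => rfl⟩

theorem restr_inv {Q : Subgroup (GU K)} {α : MulAut (GU K)} {t : MulAut Q} (ht : IsR α t) :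
    IsR α⁻¹ t⁻¹ := by
  intro e
  have h1 := ht (t⁻¹ e)
  rw [MulAut.apply_inv_self] at h1
  rw [h1, MulAut.inv_apply_self]

/-- unpacking the conclusions of `StLa4`, `StLb3`, `StLa3` -/
theorem eq_map_conj {Q : Subgroup (GU K)} {Γ G : Subgroup (MulAut Q)} {α : MulAut (GU K)} {t : MulAut Q}
    (ht : IsR α t) {P : MulAut (GU K) → Prop} (hP : ∃ β, P β) (hu : ∀ β, P β → ∀ g : Q, β (g : GU K) = α g)
    (h : ∀ γ : MulAut Q, γ ∈ Γ ↔ ∃ δ ∈ G, ∀ β : MulAut (GU K), P β →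
      ∀ g g' : Q, (g' : GU K) = β g → β ((δ g : Q) : GU K) = (γ g' : Q)) :
    Γ = G.map (MulAut.conj t).toMonoidHom := by
  obtain ⟨β, hβ⟩ := hP
  ext γ
  constructor
  · intro hγ
    obtain ⟨δ, hδ, h1⟩ := (h γ).1 hγ
    refine ⟨δ, hδ, ?_⟩
    apply MulEquiv.ext
    intro g'
    apply Subtype.ext
    have h2 : (g' : GU K) = β (t⁻¹ g' : Q) := by
      rw [hu β hβ, ← ht, MulAut.apply_inv_self]
    have h3 := h1 β hβ _ _ h2
    rw [← h3, hu β hβ, ← ht]
    rfl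
  · rintro ⟨δ, hδ, rfl⟩
    refine (h _).2 ⟨δ, hδ, fun β' hβ' g g' hg => ?_⟩
    have h2 : g' = t g := by
      apply Subtype.ext
      rw [hg, hu β' hβ', ht]
    subst h2
    rw [hu β' hβ', ← ht]
    show ((t (δ g) : Q) : GU K) = ((t (δ (t⁻¹ (t g))) : Q) : GU K)
    rw [MulAut.inv_apply_self]

theorem map_conj_comm {D : Subgroup (MulAut (GU K))} {θ : MulAut (GU K)} (h : ∀ d ∈ D, θ * d = d * θ) :
    D.map (MulAut.conj θ).toMonoidHom = D := by
  have key : ∀ d ∈ D, MulAut.conj θ d = d := by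
    intro d hd
    rw [MulAut.conj_apply, h d hd, mul_inv_cancel_right]
  ext x
  constructor
  · rintro ⟨d, hd, rfl⟩
    show MulAut.conj θ d ∈ D
    rw [key d hd]
    exact hd
  · intro hx
    exact ⟨x, hx, key x hx⟩

theorem comm_inv {D : Subgroup (MulAut (GU K))} {θ : MulAut (GU K)} (h : ∀ d ∈ D, θ * d = d * θ) :
    ∀ d ∈ D, θ⁻¹ * d = d * θ⁻¹ := by
  intro d hd
  rw [inv_mul_eq_iff_eq_mul, ← mul_assoc, h d hd, mul_inv_cancel_right]

theorem map_conj_inv {G : Type*} [Group G] (H : Subgroup G) (t : G) :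
    (H.map (MulAut.conj t).toMonoidHom).map (MulAut.conj t⁻¹).toMonoidHom = H := by
  rw [Subgroup.map_map]
  have : (MulAut.conj t⁻¹).toMonoidHom.comp (MulAut.conj t).toMonoidHom = MonoidHom.id G := by
    ext x
    simp [MulAut.conj_apply, mul_assoc]
  rw [this, Subgroup.map_id]

/-- twisting back: if `Aut_F(Q_a) = t G_a t⁻¹`, `Aut_F(Q_b) = t G_b t⁻¹`, `t = θ|` then the twist by `θ⁻¹` has the automizers `G_a`, `G_b` -/
theorem untwist [Finite (GU K)] {p : ℕ} [Fact p.Prime] {F : FusionSystem (⊤ : Subgroup (GU K))} (hF : F.IsSaturated p)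
    {θ : MulAut (GU K)} (ha : (Qa K).map θ.toMonoidHom = Qa K) (hb : (Qb K).map θ.toMonoidHom = Qb K)
    {ta : MulAut (Qa K)} {tb : MulAut (Qb K)} (hta : IsR θ ta) (htb : IsR θ tb)
    {Ga : Subgroup (MulAut (Qa K))} {Gb : Subgroup (MulAut (Qb K))}
    (hGa : F.autGroup (Qa K) = Ga.map (MulAut.conj ta).toMonoidHom)
    (hGb : F.autGroup (Qb K) = Gb.map (MulAut.conj tb).toMonoidHom) :
    ∃ F' : FusionSystem (⊤ : Subgroup (GU K)), F'.IsSaturated p ∧ (F'.IsRealizable p ↔ F.IsRealizable p) ∧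
      AF F' = (AF F).map (MulAut.conj θ⁻¹).toMonoidHom ∧ F'.autGroup (Qa K) = Ga ∧ F'.autGroup (Qb K) = Gb := by
  obtain ⟨F', h1, h2, h3, -, h4⟩ := H771.P4.exists_twist F θ⁻¹ hF
  refine ⟨F', h1, h2, h3, ?_, ?_⟩
  · rw [h4 (Qa K) ta⁻¹ (map_inv_eq ha) (restr_inv hta), hGa, map_conj_inv]
  · rw [h4 (Qb K) tb⁻¹ (map_inv_eq hb) (restr_inv htb), hGb, map_conj_inv]

/-- two systems with both essentials and the same automizers of `S`, `Q_a`, `Q_b` are equal -/
theorem eq_of_same (H : Pieces.{u}) {p n : ℕ} [Fact p.Prime] (hK : HypG K p n) (hq : 2 < p ^ n) (h7 : ¬ (p = 7 ∧ n = 1))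
    {F F' : FusionSystem (⊤ : Subgroup (GU K))} (hF : F.IsSaturated p) (hF' : F'.IsSaturated p) (h0 : AF F = AF F')
    (h1 : F.autGroup (Qa K) = F'.autGroup (Qa K)) (h2 : F.autGroup (Qb K) = F'.autGroup (Qb K)) : F = F' := by
  have hfin : Finite (GU K) := finite_GU hK
  exact fusionSystem_ext (Cfsg.Agent.H546.PU.stSame F F' (Qa K) (Qb K) (isP hK) hF hF' le_top le_top
    (fun E hE => ess_cases H hK hq h7 hF hE) (fun E hE => ess_cases H hK hq h7 hF' hE)
    (autGroup_top_eq_of_AF h0) h1 h2)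

end Cfsg.Agent.H771.GT
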