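import Cfsg.Agent.H779.G2.Stmts3

/-!
# S5211 (helper771): the matrix algebra `StWAlg`
-/

set_option autoImplicit false

namespace Cfsg.Agent.H771.GT

open Cfsg Cfsg.Agent.H779.G2 Matrix

universe u

set_option maxHeartbeats 4000000 in
theorem stWAlg : StWAlg.{u} := by
  intro K _ h3 x y z t r hx hy hz ht
  intro w w' hform hanti
  have hf03 := congrFun (congrFun hform 0) 3
  have hf12 := congrFun (congrFun hform 1) 2
  simp [w, Om, Matrix.mul_apply, Fin.sum_univ_four] at hf03 hf12
  have htx : t * x = -1 := by linear_combination -hf03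
  have hzy : z * y = -1 := mul_left_cancel₀ h3 (by linear_combination hf12)
  have h00 := hanti 0 0 (by decide)
  have h01 := hanti 0 1 (by decide)
  have h02 := hanti 0 2 (by decide)
  simp [w, w', Xm, Matrix.mul_apply, Fin.sum_univ_four] at h00 h01 h02
  have ex : x⁻¹ = -t := inv_eq_of_mul_eq_one_right (by linear_combination -htx)
  have et : t⁻¹ = -x := inv_eq_of_mul_eq_one_right (by linear_combination -htx)
  have ey : y⁻¹ = -z := inv_eq_of_mul_eq_one_right (by linear_combination -hzy)
  have ez : z⁻¹ = -y := inv_eq_of_mul_eq_one_right (by linear_combination -hzy)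
  have hr : r ≠ 0 := by
    rintro rfl
    rw [ex] at h00
    apply one_ne_zero (α := K)
    linear_combination h00 + htx
  rw [ex, ey, ez, et] at h00
  rw [ey, ez, et] at h01
  rw [ez, et] at h02
  have hyr : y = -(r * x) := by
    have h4 : 3 * x * r ^ 2 ≠ 0 := mul_ne_zero (mul_ne_zero h3 hx) (pow_ne_zero _ hr)
    refine mul_left_cancel₀ h4 ?_
    linear_combination -h02
  have hzr : z = r ^ 2 * x := by
    have h4 : 3 * x * r ≠ 0 := mul_ne_zero (mul_ne_zero h3 hx) hr
    refine mul_left_cancel₀ h4 ?_
    rw [hyr] at h01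
    linear_combination h01
  have hrx : r ^ 3 * x ^ 2 = 1 := by
    rw [hyr, hzr] at h00
    linear_combination -h00 - htx
  have hw' : w' = !![0, 0, 0, -x; 0, 0, r * x, 0; 0, -(r ^ 2 * x), 0, 0; -t, 0, 0, 0] := by
    simp only [w', ex, ey, ez, et]
    rw [hyr, hzr, neg_neg]
  have hw : w = !![0, 0, 0, x; 0, 0, -(r * x), 0; 0, r ^ 2 * x, 0, 0; t, 0, 0, 0] := by
    simp only [w]
    rw [hyr, hzr]
  rw [hw, hw']
  ext i j
  fin_cases i <;> fin_cases j <;> simp [Xm, Matrix.mul_apply, Fin.sum_univ_four]
  · linear_combination -htx - hrx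
  · ring
  · ring
  · linear_combination hrx
  · linear_combination htx + hrx
  · ring
  · linear_combination -hrx
  · ring
  · linear_combination -htx - hrx
  · linear_combination hrx
  · ring
  · ring
  · linear_combination 2 * htx + hrx
  · linear_combination -3 * hrx - 3 * htx
  · linear_combination 3 * hrx + 3 * htx
  · linear_combination -hrx - htx

end Cfsg.Agent.H771.GT
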